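import Cfsg.Agent.R2.Spec.SDL.Num
import Cfsg.Agent.R2.Spec.E.IsoNum

/-!
# S3435, SMALLD, `L = L_8(q)`, `U_8(q)` (helper19): both classes isolated

* `Pr8.false` : the data `Pr8` are contradictory;
* `iso8` : both classes isolated: exotic.
-/

set_option autoImplicit false
set_option linter.unusedSectionVars false

namespace Cfsg.Agent.R2.Spec.SDL

open Cfsg Cfsg.Agent.H426.LieFam Cfsg.Agent.R2.Spec Cfsg.Agent.R2.Spec.P1 Cfsg.Agent.R2.Spec.F1
open Cfsg.Agent.R2.Spec.E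

/-- the number `P` is not a candidate -/
def okP (q u A P : ℕ) : Bool := A % P != 0 || decide (7 * ((q + 1) * P) + 1 < q ^ 7) || Nat.gcd q u != 1

theorem okP_false {q u A P : ℕ} (h : okP q u A P = true) (h1 : P ∣ A) (h2 : q ^ 7 ≤ 7 * ((q + 1) * P) + 1)
    (h3 : Nat.Coprime q u) : False := by
  rw [okP, Bool.or_eq_true, Bool.or_eq_true, bne_iff_ne, decide_eq_true_iff, bne_iff_ne] at h
  rcases h with (h | h) | h
  · exact h (Nat.mod_eq_zero_of_dvd h1)
  · omega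
  · exact h h3

/-- the check for `q = 3`, `S` linear or unitary -/
def ckL (t : Fam) : Bool := (List.range 7).all fun u => (List.range 8).all fun m =>
  decide (u < 2) || decide (m < 4) || decide ((u + 1) ^ 2 * (2 * u + 23) + 1 < u ^ m) ||
    (okP 3 u (ttor t 3 7) (ttor (.psl m) u m) && okP 3 u (ttor t 3 7) (ttor (.psl m) u (m - 1)) &&
      (okP 3 u (ttor t 3 7) (ttor (.psu m) u m) && okP 3 u (ttor t 3 7) (ttor (.psu m) u (m - 1))))

theorem ckL_psl : ckL (.psl 8) = true := by decide +kernel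

theorem ckL_psu : ckL (.psu 8) = true := by decide +kernel

theorem ckL_of {t : Fam} (ht : t = .psl 8 ∨ t = .psu 8) {u m : ℕ} (hu : 2 ≤ u) (hu2 : u ≤ 6) (hm : 4 ≤ m) (hm2 : m ≤ 7)
    (hW : u ^ m ≤ (u + 1) ^ 2 * (2 * u + 23) + 1) :
    (okP 3 u (ttor t 3 7) (ttor (.psl m) u m) = true ∧ okP 3 u (ttor t 3 7) (ttor (.psl m) u (m - 1)) = true) ∧
      (okP 3 u (ttor t 3 7) (ttor (.psu m) u m) = true ∧ okP 3 u (ttor t 3 7) (ttor (.psu m) u (m - 1)) = true) := by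
  have h : ckL t = true := by
    rcases ht with rfl | rfl
    · exact ckL_psl
    · exact ckL_psu
  rw [ckL, List.all_eq_true] at h
  have h1 := h u (List.mem_range.2 (by omega))
  rw [List.all_eq_true] at h1
  have h2 := h1 m (List.mem_range.2 (by omega))
  rw [decide_eq_false (by omega), decide_eq_false (by omega), decide_eq_false (by omega), Bool.false_or,
    Bool.false_or, Bool.false_or, Bool.and_eq_true, Bool.and_eq_true, Bool.and_eq_true] at h2
  exact h2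

/-- the check for `S` orthogonal -/
def ckO (t : Fam) : Bool := (List.range 7).all fun q2 => (List.range 41).all fun u => (List.range 14).all fun m =>
  decide (q2 < 1) || decide (u < 2) || decide (m < 4) ||
    decide (4 * ((u + 1) * (2 * q2 + 1 + 1)) + 112 * ((2 * q2 + 1) * (u + 1) ^ 2) < u ^ m) ||
    ((okP (2 * q2 + 1) u (ttor t (2 * q2 + 1) 7) (ttor (.oplus m) u m) || m % 2 == 0) &&
      (okP (2 * q2 + 1) u (ttor t (2 * q2 + 1) 7) (ttor (.oplus m) u (2 * (m - 1))) || m % 2 == 0) &&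
      okP (2 * q2 + 1) u (ttor t (2 * q2 + 1) 7) (ttor (.ominus m) u (2 * m)) &&
      okP (2 * q2 + 1) u (ttor t (2 * q2 + 1) 7) (ttor (.ominus m) u (2 * (m - 1))) &&
      (okP (2 * q2 + 1) u (ttor t (2 * q2 + 1) 7) (ttor (.ominus m) u (m - 1)) || m % 2 == 1))

theorem ckO_psl : ckO (.psl 8) = true := by decide +kernel

theorem ckO_psu : ckO (.psu 8) = true := by decide +kernel

theorem ckO_of {t : Fam} (ht : t = .psl 8 ∨ t = .psu 8) {q u m : ℕ} (hq : 3 ≤ q) (hq1 : q ≤ 13) (hq2 : q % 2 = 1)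
    (hu : 2 ≤ u) (hu2 : u ≤ 40) (hm : 4 ≤ m) (hm2 : m ≤ 13)
    (hW : u ^ m ≤ 4 * ((u + 1) * (q + 1)) + 112 * (q * (u + 1) ^ 2)) :
    (m % 2 = 1 → okP q u (ttor t q 7) (ttor (.oplus m) u m) = true) ∧
      (m % 2 = 1 → okP q u (ttor t q 7) (ttor (.oplus m) u (2 * (m - 1))) = true) ∧
      okP q u (ttor t q 7) (ttor (.ominus m) u (2 * m)) = true ∧
      okP q u (ttor t q 7) (ttor (.ominus m) u (2 * (m - 1))) = true ∧
      (m % 2 = 0 → okP q u (ttor t q 7) (ttor (.ominus m) u (m - 1)) = true) := by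
  have h : ckO t = true := by
    rcases ht with rfl | rfl
    · exact ckO_psl
    · exact ckO_psu
  obtain ⟨q2, rfl⟩ : ∃ q2, q = 2 * q2 + 1 := ⟨q / 2, by omega⟩
  rw [ckO, List.all_eq_true] at h
  have h0 := h q2 (List.mem_range.2 (by omega))
  rw [List.all_eq_true] at h0
  have h1 := h0 u (List.mem_range.2 (by omega))
  rw [List.all_eq_true] at h1
  have h2 := h1 m (List.mem_range.2 (by omega))
  rw [decide_eq_false (by omega), decide_eq_false (by omega), decide_eq_false (by omega),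
    decide_eq_false (by omega), Bool.false_or, Bool.false_or, Bool.false_or, Bool.false_or, Bool.and_eq_true,
    Bool.and_eq_true, Bool.and_eq_true, Bool.and_eq_true, Bool.or_eq_true, Bool.or_eq_true, Bool.or_eq_true,
    beq_iff_eq, beq_iff_eq] at h2
  obtain ⟨⟨⟨⟨h3, h4⟩, h5⟩, h6⟩, h7⟩ := h2
  refine ⟨fun h8 => h3.resolve_right (by omega), fun h8 => h4.resolve_right (by omega), h5, h6,
    fun h8 => h7.resolve_right (by omega)⟩

/-- the lower bound of the numbers of `L_m(u)`, `U_m(u)` -/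
theorem low_lin {m u x : ℕ} (hm : 4 ≤ m) (hu : 2 ≤ u) :
    (top (.psl m) x → u ^ m ≤ (u + 1) * (Nat.gcd m (u - 1) * ttor (.psl m) u x) + 1) ∧
      (top (.psu m) x → u ^ m ≤ (u + 1) * (Nat.gcd m (u + 1) * ttor (.psu m) u x) + 1) := by
  have hp := Nat.one_le_pow m u (by omega)
  have hp2 := Nat.one_le_pow (m - 1) u (by omega)
  have e1 : u ^ m = u ^ (m - 1) * u := by rw [← pow_succ]; congr 1; omega
  have hp3 : u ≤ u ^ (m - 1) := Nat.le_self_pow (by omega) u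
  constructor
  · rintro ⟨-, rfl | hx⟩
    · obtain ⟨h1, -⟩ := val_psl (n := x) (q := u) (by omega) hu
      have h2 : (u - 1) * (Nat.gcd x (u - 1) * ttor (.psl x) u x) ≤ (u + 1) * (Nat.gcd x (u - 1) * ttor (.psl x) u x) :=
        Nat.mul_le_mul_right _ (by omega)
      have h3 : (u - 1) * (Nat.gcd x (u - 1) * ttor (.psl x) u x) = u ^ x - 1 := by rw [← h1]; ring
      omega
    · obtain rfl : x = m - 1 := by omega
      obtain ⟨-, h1⟩ := val_psl (n := m) (q := u) (by omega) hu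
      rw [mul_comm (Nat.gcd m (u - 1)), h1, e1]
      obtain ⟨z, hz⟩ : ∃ z, u ^ (m - 1) = z + 1 := ⟨u ^ (m - 1) - 1, by omega⟩
      rw [hz, Nat.add_sub_cancel]
      rw [hz] at hp3
      nlinarith
  · rintro ⟨-, rfl | hx⟩
    · obtain ⟨h1, -⟩ := val_psu (n := x) (q := u) (by omega) hu
      have h3 : (u + 1) * (Nat.gcd x (u + 1) * ttor (.psu x) u x) = if x % 2 = 0 then u ^ x - 1 else u ^ x + 1 := by
        rw [← h1]; ring
      rw [h3]
      split_ifs <;> omega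
    · obtain rfl : x = m - 1 := by omega
      obtain ⟨-, h1⟩ := val_psu (n := m) (q := u) (by omega) hu
      rw [mul_comm (Nat.gcd m (u + 1)), h1, e1]
      have h2 : u ^ (m - 1) - 1 ≤ (if m % 2 = 0 then u ^ (m - 1) + 1 else u ^ (m - 1) - 1) := by
        split_ifs <;> omega
      refine le_trans ?_ (Nat.add_le_add_right (Nat.mul_le_mul_left _ h2) 1)
      obtain ⟨z, hz⟩ : ∃ z, u ^ (m - 1) = z + 1 := ⟨u ^ (m - 1) - 1, by omega⟩
      rw [hz, Nat.add_sub_cancel]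
      rw [hz] at hp3
      nlinarith

theorem m_le_seven {u m : ℕ} (hu : 2 ≤ u) (hu2 : u ≤ 6) (hW : u ^ m ≤ (u + 1) ^ 2 * (2 * u + 23) + 1) : m ≤ 7 := by
  by_contra hcon
  have h1 : u ^ 8 ≤ u ^ m := Nat.pow_le_pow_right (by omega) (by omega)
  have h2 : u ^ 8 ≤ (u + 1) ^ 2 * (2 * u + 23) + 1 := h1.trans hW
  interval_cases u <;> norm_num at h2

theorem m_le_13 {q u m : ℕ} (hq1 : q ≤ 13) (hu : 2 ≤ u) (hu2 : u ≤ 40)
    (hW : u ^ m ≤ 4 * ((u + 1) * (q + 1)) + 112 * (q * (u + 1) ^ 2)) : m ≤ 13 := by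
  by_contra hcon
  have h1 : u ^ 14 ≤ u ^ m := Nat.pow_le_pow_right (by omega) (by omega)
  have h3 : 4 * ((u + 1) * (q + 1)) + 112 * (q * (u + 1) ^ 2) ≤ 4 * ((u + 1) * 14) + 112 * (13 * (u + 1) ^ 2) :=
    Nat.add_le_add (Nat.mul_le_mul_left _ (Nat.mul_le_mul_left _ (by omega)))
      (Nat.mul_le_mul_left _ (Nat.mul_le_mul_right _ hq1))
  have h2 : u ^ 14 ≤ 4 * ((u + 1) * 14) + 112 * (13 * (u + 1) ^ 2) := (h1.trans hW).trans h3
  interval_cases u <;> norm_num at h2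

variable {t t' : Fam} {q u x7 x8 k d : ℕ} {α β e C : ℤ}

theorem Pr8.P7_le (h : Pr8 t q t' u x7 x8 k d α β e C) :
    (ttor t' u x7 : ℤ) ≤ 3 * (ttor t' u x8 : ℤ) + |e| :=
  P_le h.α1 h.β3 (by positivity) h.eq

/-- **linear and unitary `S`** -/
theorem Pr8.false_lin (h : Pr8 t q t' u x7 x8 k d α β e C) (ht : t = .psl 8 ∨ t = .psu 8) (hq3 : 3 ≤ q)
    (hq2 : q % 2 = 1) (hu : 2 ≤ u) (hqu : Nat.Coprime q u) {m : ℕ} (hm : 4 ≤ m) (ht' : t' = .psl m ∨ t' = .psu m) :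
    False := by
  obtain ⟨hdd, hde⟩ := h.lin (h.lk ⟨m, ht'⟩)
  have hd : d ≤ u + 1 ∧ 1 ≤ d := by
    rcases hdd with ⟨m', hm', rfl⟩ | ⟨m', hm', rfl⟩
    · obtain rfl : m' = m := by rcases ht' with h1 | h1 <;> rw [h1] at hm' <;> cases hm'; rfl
      exact ⟨(Nat.gcd_le_right _ (by omega)).trans (by omega), Nat.gcd_pos_of_pos_left _ (by omega)⟩
    · obtain rfl : m' = m := by rcases ht' with h1 | h1 <;> rw [h1] at hm' <;> cases hm'; rfl
      exact ⟨Nat.gcd_le_right _ (by omega), Nat.gcd_pos_of_pos_left _ (by omega)⟩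
  have hW : u ^ m ≤ (u + 1) * (d * ttor t' u x8) + 1 := by
    have h8 := h.top8
    rcases ht' with rfl | rfl
    · rcases hdd with ⟨m', hm', rfl⟩ | ⟨m', hm', rfl⟩
      · cases hm'
        exact (low_lin hm hu).1 h8
      · cases hm'
    · rcases hdd with ⟨m', hm', rfl⟩ | ⟨m', hm', rfl⟩
      · cases hm'
      · cases hm'
        exact (low_lin hm hu).2 h8
  have hlow : u ^ 4 ≤ u ^ m := Nat.pow_le_pow_right (by omega) hm
  have he0 : |e| ≤ u + 1 := by
    have h1 : (1 : ℤ) * |e| ≤ d * |e| := mul_le_mul_of_nonneg_right (by exact_mod_cast hd.2) (abs_nonneg _)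
    linarith
  have hWz : ((u : ℤ)) ^ m ≤ (u + 1) * (d * (ttor t' u x8 : ℤ)) + 1 := by exact_mod_cast hW
  have hlowz : (u : ℤ) ^ 4 ≤ (u : ℤ) ^ m := by exact_mod_cast hlow
  have h7 : (q : ℤ) ^ 7 ≤ 7 * ((q + 1) * (ttor t' u x7 : ℤ)) + 1 := by exact_mod_cast h.le7
  have hdz : (d : ℤ) ≤ u + 1 := by exact_mod_cast hd.1
  have hdz1 : (1 : ℤ) ≤ d := by exact_mod_cast hd.2
  rcases Nat.lt_or_ge q 5 with hq5 | hq5
  · obtain rfl : q = 3 := by omega
    have hC2 := h.C2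
    obtain ⟨h1, h2⟩ := num_lin3 (by exact_mod_cast hu) he0 (by exact_mod_cast hC2) h.C1 h.α2
      (by exact_mod_cast h.le8) hdz hdz1 hde hlowz hWz
    have hu6 : u ≤ 6 := by exact_mod_cast h1
    have hW2 : u ^ m ≤ (u + 1) ^ 2 * (2 * u + 23) + 1 := by exact_mod_cast h2
    obtain ⟨⟨c1, c2⟩, c3, c4⟩ := ckL_of ht hu hu6 hm (m_le_seven hu hu6 hW2) hW2
    have h3 := h.top7
    rcases ht' with rfl | rfl
    · rcases h3.2 with h4 | h4
      · rw [← h4] at c1
        exact okP_false c1 (h4 ▸ h.dvd7) (h4 ▸ h.le7) hqu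
      · have h5 : x7 = m - 1 := by omega
        rw [← h5] at c2
        exact okP_false c2 h.dvd7 h.le7 hqu
    · rcases h3.2 with h4 | h4
      · rw [← h4] at c3
        exact okP_false c3 (h4 ▸ h.dvd7) (h4 ▸ h.le7) hqu
      · have h5 : x7 = m - 1 := by omega
        rw [← h5] at c4
        exact okP_false c4 h.dvd7 h.le7 hqu
  · exact num_lin (by exact_mod_cast hq5) (by exact_mod_cast hu) he0 h.C2 h.C1 h.α2 h.P7_le h7 h.le8 hdz hdz1 hde
      hlowz hWz

/-- **orthogonal `S`, `k = 2, 3`** -/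
theorem Pr8.false_orth (h : Pr8 t q t' u x7 x8 k d α β e C) (ht : t = .psl 8 ∨ t = .psu 8) (hq3 : 3 ≤ q)
    (hq2 : q % 2 = 1) (hu : 2 ≤ u) (hqu : Nat.Coprime q u) {m : ℕ} (hm : 4 ≤ m)
    (ht' : (t' = .oplus m ∧ m % 2 = 1) ∨ t' = .ominus m) : False := by
  have hW : u ^ m ≤ 8 * ttor t' u x8 := by
    have h1 := lowS hu (t' := t') (i' := x8) (by rcases ht' with ⟨rfl, -⟩ | rfl <;> exact hm) h.top8
    rcases ht' with ⟨rfl, hm2⟩ | rfl
    · rw [szE, if_neg (by omega)] at h1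
      exact h1
    · exact h1
  have hlow : u ^ 4 ≤ u ^ m := Nat.pow_le_pow_right (by omega) hm
  have hWz : ((u : ℤ)) ^ m ≤ 8 * (ttor t' u x8 : ℤ) := by exact_mod_cast hW
  have hlowz : (u : ℤ) ^ 4 ≤ (u : ℤ) ^ m := by exact_mod_cast hlow
  have h7 : (q : ℤ) ^ 7 ≤ 7 * ((q + 1) * (ttor t' u x7 : ℤ)) + 1 := by exact_mod_cast h.le7
  obtain ⟨h1, h2⟩ := num_orth (by exact_mod_cast hq3) (by exact_mod_cast hu) h.e2 h.C2 h.C1 h.α2 h.P7_le h7 h.le8
    hlowz hWz
  have hq13 : q ≤ 13 := by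
    have : q < 15 := by exact_mod_cast h1
    omega
  have hu40 : u ≤ 40 := by
    have := num_orth2 (by exact_mod_cast hq3) (by exact_mod_cast hq13) (by exact_mod_cast hu) hlowz h2
    exact_mod_cast this
  have hW2 : u ^ m ≤ 4 * ((u + 1) * (q + 1)) + 112 * (q * (u + 1) ^ 2) := by exact_mod_cast h2
  obtain ⟨c1, c2, c3, c4, c5⟩ := ckO_of ht hq3 hq13 hq2 hu hu40 hm (m_le_13 hq13 hu hu40 hW2) hW2
  have h3 := h.top7
  rcases ht' with ⟨rfl, hm2⟩ | rfl
  · rcases h3 with ⟨h4, -⟩ | h4 | ⟨-, h4⟩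
    · have c1' := c1 hm2
      rw [← h4] at c1'
      exact okP_false c1' (h4 ▸ h.dvd7) (h4 ▸ h.le7) hqu
    · have c2' := c2 hm2
      rw [← h4] at c2'
      exact okP_false c2' h.dvd7 h.le7 hqu
    · omega
  · rcases h3 with h4 | h4 | ⟨h4, h5⟩
    · rw [← h4] at c3
      exact okP_false c3 h.dvd7 h.le7 hqu
    · rw [← h4] at c4
      exact okP_false c4 h.dvd7 h.le7 hqu
    · have c5' := c5 h5
      rw [← h4] at c5'
      exact okP_false c5' h.dvd7 h.le7 hqu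

/-- **The data `Pr8` are contradictory.** -/
theorem Pr8.false (h : Pr8 t q t' u x7 x8 k d α β e C) (ht : t = .psl 8 ∨ t = .psu 8) (hq3 : 3 ≤ q)
    (hq2 : q % 2 = 1) (hu : 2 ≤ u) (hqu : Nat.Coprime q u) (hr' : RkS t') : False := by
  have h7 : (q : ℤ) ^ 7 ≤ 7 * ((q + 1) * (ttor t' u x7 : ℤ)) + 1 := by exact_mod_cast h.le7
  have sp : k = 1 → False := by
    intro hk
    obtain ⟨he, hα, hβ⟩ := h.k1 hk
    have h8 := h.le8
    have heq := h.eq
    rw [hα, one_mul] at h8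
    rw [hα, hβ, one_mul, one_mul] at heq
    exact num_sp (by exact_mod_cast hq3) he h.C2 heq h7 h8
  have htop := h.top7
  cases t' with
  | psl m =>
    have hm : 4 ≤ m := by
      rcases hr' with h1 | h1 | h1
      · exact h1
      · cases h1
      · cases h1
    exact h.false_lin ht hq3 hq2 hu hqu hm (Or.inl rfl)
  | psu m =>
    have hm : 4 ≤ m := by
      rcases hr' with h1 | h1 | h1
      · exact h1
      · cases h1
      · cases h1
    exact h.false_lin ht hq3 hq2 hu hqu hm (Or.inr rfl)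
  | psp m => exact sp (h.sp ⟨m, Or.inl rfl⟩)
  | oodd m => exact sp (h.sp ⟨m, Or.inr (Or.inl rfl)⟩)
  | oplus m =>
    have hm : 4 ≤ m := by
      rcases hr' with h1 | h1 | h1
      · exact h1
      · cases h1
      · cases h1
    rcases Nat.mod_two_eq_zero_or_one m with h2 | h2
    · exact sp (h.sp ⟨m, Or.inr (Or.inr ⟨rfl, h2⟩)⟩)
    · exact h.false_orth ht hq3 hq2 hu hqu hm (Or.inl ⟨rfl, h2⟩)
  | ominus m =>
    have hm : 4 ≤ m := by
      rcases hr' with h1 | h1 | h1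
      · exact h1
      · cases h1
      · cases h1
    exact h.false_orth ht hq3 hq2 hu hqu hm (Or.inr rfl)
  | _ => exact htop.elim

/-- **`L_8(q)`, `U_8(q)`, both classes isolated: exotic.** -/
theorem iso8 {t t' : Fam} {p f i j v f' i' j' w H : ℕ} {S : Type} [Group S]
    (h : Duel t p f i j t' v f' i' j' w H S) (ht : t = .psl 8 ∨ t = .psu 8) (hr' : RkS t') (hj : top t' j') :
    ∃ H' : ℕ, ttor t (p ^ f) j = H' * ttor t' (v ^ f') j' ∧
      Exo t (p ^ f) t' (v ^ f') i j i' j' H H' := by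
  rcases pr8 h ht hr' hj with h1 | ⟨x7, x8, k, d, α, β, e, C, h1⟩
  · exact h1
  · obtain ⟨hq3, hq2⟩ := f_q h.p_prime h.p_ne h.f_pos
    have hu : 2 ≤ v ^ f' := h.v_prime.two_le.trans (Nat.le_self_pow (by have := h.f'_pos; omega) v)
    exact (h1.false ht hq3 hq2 hu
      (Nat.Coprime.pow _ _ ((Nat.coprime_primes h.p_prime h.v_prime).2 h.vp.symm)) hr').elim

end Cfsg.Agent.R2.Spec.SDL
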