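import Cfsg.Agent.R2.Spec.SDL.NonA
import Cfsg.Agent.R2.Spec.E.NonCL

/-!
# S3435, SMALLD, `L = L_8(q)`, `U_8(q)` (helper19): `S = L_m(u)`, `U_m(u)`, `m = 5, 6`, the second class not isolated

* `nonA56` : contradiction.
-/

set_option autoImplicit false
set_option linter.unusedSectionVars false

namespace Cfsg.Agent.R2.Spec.SDL

open Cfsg Cfsg.Agent.H426.LieFam Cfsg.Agent.R2.Spec Cfsg.Agent.R2.Spec.P1 Cfsg.Agent.R2.Spec.F1
open Cfsg.Agent.R2.Spec.E Cfsg.Agent.R2.Spec.NA Cfsg.Agent.R2.Spec.AA Cfsg.Agent.R2.Spec.X7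

theorem mul_natAbs_le {y : ℤ} {u : ℕ} (hy : y.natAbs = u) : y ≤ u ∧ -(u : ℤ) ≤ y := by omega

/-- the size of `(y ^ 5 - 1) / (y - 1)` -/
theorem e5_le {y : ℤ} {u : ℕ} (hy : y.natAbs = u) (hu : 2 ≤ u) : (y ^ 4 + y ^ 3 + y ^ 2 + y + 1).natAbs ≤ 2 * u ^ 4 := by
  rcases Int.natAbs_eq y with h | h
  · rw [hy] at h
    rw [h]
    have h1 : ((u : ℤ) ^ 4 + (u : ℤ) ^ 3 + (u : ℤ) ^ 2 + u + 1) = ((u ^ 4 + u ^ 3 + u ^ 2 + u + 1 : ℕ) : ℤ) := by
      push_cast; ring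
    rw [h1, Int.natAbs_natCast]
    obtain ⟨z, rfl⟩ : ∃ z, u = z + 2 := ⟨u - 2, by omega⟩
    ring_nf
    nlinarith [Nat.zero_le (z ^ 2), Nat.zero_le (z ^ 3), Nat.zero_le (z ^ 4)]
  · rw [hy] at h
    rw [h]
    have h1 : ((-(u : ℤ)) ^ 4 + (-(u : ℤ)) ^ 3 + (-(u : ℤ)) ^ 2 + -(u : ℤ) + 1) =
        (u : ℤ) ^ 4 - (u : ℤ) ^ 3 + (u : ℤ) ^ 2 - u + 1 := by ring
    rw [h1]
    have hu' : (2 : ℤ) ≤ u := by exact_mod_cast hu
    have h2 : (u : ℤ) ^ 4 - (u : ℤ) ^ 3 + (u : ℤ) ^ 2 - u + 1 ≤ 2 * (u : ℤ) ^ 4 := by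
      nlinarith [pow_pos (show (0 : ℤ) < u by omega) 3, pow_pos (show (0 : ℤ) < u by omega) 2,
        pow_pos (show (0 : ℤ) < u by omega) 4]
    have h3 : 0 ≤ (u : ℤ) ^ 4 - (u : ℤ) ^ 3 + (u : ℤ) ^ 2 - u + 1 := by
      nlinarith [pow_pos (show (0 : ℤ) < u by omega) 3, pow_pos (show (0 : ℤ) < u by omega) 2]
    have h4 : ((((u : ℤ) ^ 4 - (u : ℤ) ^ 3 + (u : ℤ) ^ 2 - u + 1).natAbs : ℕ) : ℤ) ≤ ((2 * u ^ 4 : ℕ) : ℤ) := by
      rw [Int.natAbs_of_nonneg h3]
      push_cast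
      exact h2
    exact_mod_cast h4

/-- the size of `(y ^ 6 - 1) / (y - 1)` -/
theorem e6_le {y : ℤ} {u : ℕ} (hy : y.natAbs = u) (hu : 2 ≤ u) :
    (y ^ 5 + y ^ 4 + y ^ 3 + y ^ 2 + y + 1).natAbs ≤ 2 * u ^ 5 := by
  rcases Int.natAbs_eq y with h | h
  · rw [hy] at h
    rw [h]
    have h1 : ((u : ℤ) ^ 5 + (u : ℤ) ^ 4 + (u : ℤ) ^ 3 + (u : ℤ) ^ 2 + u + 1) =
      ((u ^ 5 + u ^ 4 + u ^ 3 + u ^ 2 + u + 1 : ℕ) : ℤ) := by
      push_cast; ring
    rw [h1, Int.natAbs_natCast]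
    obtain ⟨z, rfl⟩ : ∃ z, u = z + 2 := ⟨u - 2, by omega⟩
    ring_nf
    nlinarith [Nat.zero_le (z ^ 2), Nat.zero_le (z ^ 3), Nat.zero_le (z ^ 4), Nat.zero_le (z ^ 5)]
  · rw [hy] at h
    rw [h]
    have h1 : ((-(u : ℤ)) ^ 5 + (-(u : ℤ)) ^ 4 + (-(u : ℤ)) ^ 3 + (-(u : ℤ)) ^ 2 + -(u : ℤ) + 1) =
        -((u : ℤ) ^ 5 - (u : ℤ) ^ 4 + (u : ℤ) ^ 3 - (u : ℤ) ^ 2 + u - 1) := by ring
    rw [h1, Int.natAbs_neg]
    have hu' : (2 : ℤ) ≤ u := by exact_mod_cast hu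
    have p2 := pow_pos (show (0 : ℤ) < u by omega) 2
    have p3 := pow_pos (show (0 : ℤ) < u by omega) 3
    have p4 := pow_pos (show (0 : ℤ) < u by omega) 4
    have h2 : (u : ℤ) ^ 5 - (u : ℤ) ^ 4 + (u : ℤ) ^ 3 - (u : ℤ) ^ 2 + u - 1 ≤ 2 * (u : ℤ) ^ 5 := by
      nlinarith
    have h3 : 0 ≤ (u : ℤ) ^ 5 - (u : ℤ) ^ 4 + (u : ℤ) ^ 3 - (u : ℤ) ^ 2 + u - 1 := by
      nlinarith
    have h4 : ((((u : ℤ) ^ 5 - (u : ℤ) ^ 4 + (u : ℤ) ^ 3 - (u : ℤ) ^ 2 + u - 1).natAbs : ℕ) : ℤ) ≤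
        ((2 * u ^ 5 : ℕ) : ℤ) := by
      rw [Int.natAbs_of_nonneg h3]
      push_cast
      exact h2
    exact_mod_cast h4

/-- the size of `(y ^ 3 - 1) (y + 1)` -/
theorem t5_ge {y : ℤ} {u : ℕ} (hy : y.natAbs = u) (hu : 2 ≤ u) :
    u ^ 4 ≤ ((y ^ 3 - 1) * (y + 1)).natAbs + (u ^ 3 + u) := by
  have hu' : (2 : ℤ) ≤ u := by exact_mod_cast hu
  have p2 := pow_pos (show (0 : ℤ) < u by omega) 2
  have p3 := pow_pos (show (0 : ℤ) < u by omega) 3
  have h5 : (u : ℤ) ^ 4 ≤ |(y ^ 3 - 1) * (y + 1)| + ((u : ℤ) ^ 3 + u) := by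
    rcases Int.natAbs_eq y with h | h
    · rw [hy] at h
      rw [h]
      have := le_abs_self (((u : ℤ) ^ 3 - 1) * ((u : ℤ) + 1))
      nlinarith
    · rw [hy] at h
      rw [h]
      have := le_abs_self (((-(u : ℤ)) ^ 3 - 1) * (-(u : ℤ) + 1))
      nlinarith
  rw [Int.abs_eq_natAbs] at h5
  exact_mod_cast h5

theorem r5_le {y : ℤ} {u : ℕ} (hy : y.natAbs = u) : (y ^ 2 + 2 * y + 2).natAbs ≤ u ^ 2 + 2 * u + 2 := by
  have h1 : y ^ 2 = (u : ℤ) ^ 2 := by
    rcases Int.natAbs_eq y with h | h <;> rw [hy] at h <;> rw [h] <;> ring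
  have h2 : 0 ≤ y ^ 2 + 2 * y + 2 := by nlinarith [sq_nonneg (y + 1)]
  have h3 : y ^ 2 + 2 * y + 2 ≤ (u : ℤ) ^ 2 + 2 * u + 2 := by
    rw [h1]
    have := (mul_natAbs_le hy).1
    omega
  have h4 : ((y ^ 2 + 2 * y + 2).natAbs : ℤ) ≤ ((u ^ 2 + 2 * u + 2 : ℕ) : ℤ) := by
    rw [Int.natAbs_of_nonneg h2]
    push_cast
    exact h3
  exact_mod_cast h4

theorem t6_ge {y : ℤ} {u : ℕ} (hy : y.natAbs = u) (hu : 2 ≤ u) :
    u ^ 3 + u ≤ (y ^ 3 + y ^ 2 + y + 1).natAbs + (u ^ 2 + 1) := by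
  have hu' : (2 : ℤ) ≤ u := by exact_mod_cast hu
  have p2 := pow_pos (show (0 : ℤ) < u by omega) 2
  have h5 : (u : ℤ) ^ 3 + u ≤ |y ^ 3 + y ^ 2 + y + 1| + ((u : ℤ) ^ 2 + 1) := by
    rcases Int.natAbs_eq y with h | h
    · rw [hy] at h
      rw [h]
      have := le_abs_self ((u : ℤ) ^ 3 + (u : ℤ) ^ 2 + (u : ℤ) + 1)
      nlinarith
    · rw [hy] at h
      rw [h]
      have := neg_le_abs ((-(u : ℤ)) ^ 3 + (-(u : ℤ)) ^ 2 + (-(u : ℤ)) + 1)
      nlinarith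
  rw [Int.abs_eq_natAbs] at h5
  exact_mod_cast h5

/-- the final check for `m = 6` -/
def ck6 (t : Fam) : Bool := (List.range 9).all fun q => (List.range 10).all fun u => (List.range 2).all fun i =>
  decide (q < 3) || decide (q % 2 = 0) || decide (u < 2) ||
    (ttor t q (7 + i) * Nat.gcd 6 (u - 1) * (u - 1) != u ^ 6 - 1 &&
      ttor t q (7 + i) * Nat.gcd 6 (u + 1) * (u + 1) != u ^ 6 - 1)

theorem ck6_psl : ck6 (.psl 8) = true := by decide +kernel

theorem ck6_psu : ck6 (.psu 8) = true := by decide +kernel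

theorem ck6_of {t : Fam} (ht : t = .psl 8 ∨ t = .psu 8) {q u i : ℕ} (hq : 3 ≤ q) (hq1 : q ≤ 8) (hq2 : q % 2 = 1)
    (hu : 2 ≤ u) (hu2 : u ≤ 9) (hi : i = 7 ∨ i = 8) :
    ttor t q i * Nat.gcd 6 (u - 1) * (u - 1) ≠ u ^ 6 - 1 ∧ ttor t q i * Nat.gcd 6 (u + 1) * (u + 1) ≠ u ^ 6 - 1 := by
  have h : ck6 t = true := by
    rcases ht with rfl | rfl
    · exact ck6_psl
    · exact ck6_psu
  rw [ck6, List.all_eq_true] at h
  have h0 := h q (List.mem_range.2 (by omega))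
  rw [List.all_eq_true] at h0
  have h1 := h0 u (List.mem_range.2 (by omega))
  rw [List.all_eq_true] at h1
  have h2 := h1 (i - 7) (List.mem_range.2 (by omega))
  rw [decide_eq_false (by omega), decide_eq_false (by omega), decide_eq_false (by omega), Bool.false_or,
    Bool.false_or, Bool.false_or, Bool.and_eq_true, bne_iff_ne, bne_iff_ne, show 7 + (i - 7) = i by omega] at h2
  exact h2

/-- the final check for `m = 6`, `i' = 5`, `q = 3` -/
theorem ck65 {t : Fam} (ht : t = .psl 8 ∨ t = .psu 8) {i : ℕ} (hi : i = 7 ∨ i = 8) :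
    ttor t 3 i ∉ [31, 121, 341, 2801, 11, 521] := by
  rcases ht with rfl | rfl <;> rcases hi with rfl | rfl <;> decide +kernel

variable {t t' : Fam} {p f i j v f' i' j' w H m : ℕ} {S : Type} [Group S] [Finite S]

/-- **`S = L_5, U_5, L_6, U_6`, the second class is not isolated.** -/
theorem nonA56 (h : Duel t p f i j t' v f' i' j' w H S) (ht : t = .psl 8 ∨ t = .psu 8)
    (hm : m = 5 ∨ m = 6) (ht' : t' = .psl m ∨ t' = .psu m) (hj : ¬ top t' j') : False := by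
  have hr : 4 ≤ rk t := by
    rcases ht with rfl | rfl
    · exact (by decide : 4 ≤ 8)
    · exact (by decide : 4 ≤ 8)
  obtain ⟨hq3, hq2⟩ := f_q h.p_prime h.p_ne h.f_pos
  have hu := h.u_two
  obtain ⟨y, hy⟩ : ∃ y : ℤ, IsAA t' m (v ^ f') y := by
    rcases ht' with h1 | h1
    · exact ⟨_, Or.inl ⟨h1, rfl⟩⟩
    · exact ⟨_, Or.inr ⟨h1, rfl⟩⟩
  obtain ⟨e, hA, hAA⟩ := hy.isA (by omega)
  have hDv := duel_A h hA hj
  have hyu := hy.abs_eq
  obtain ⟨a, b, c, hL, hT⟩ := lnum' h.p_prime h.p_ne h.f_pos hr h.pair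
  have hnF : ¬ FamII t := by
    rcases ht with rfl | rfl <;> exact id
  have hpq : p ∣ p ^ f := dvd_pow_self p (by have := h.f_pos; omega)
  have hpN : ¬ p ∣ ttor t (p ^ f) j := fun hd => h.p_prime.one_lt.ne'
    (Nat.eq_one_of_dvd_coprimes hL.copN hpq hd)
  have hpM : ¬ p ∣ ttor t (p ^ f) i := fun hd => h.p_prime.one_lt.ne'
    (Nat.eq_one_of_dvd_coprimes hL.copM hpq hd)
  have hlin : ∃ n, t' = .psl n ∨ t' = .psu n := ⟨m, ht'⟩
  have hlow := lowM8 ht hq3 h.pair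
  have hi78 : i = 7 ∨ i = 8 := by
    have h1 := h.pair
    rcases ht with rfl | rfl
    · rcases h1 with ⟨h1, h2⟩ | ⟨h1, h2⟩ <;> omega
    · rcases h1 with ⟨h1, h2⟩ | ⟨h1, h2⟩ <;> omega
  obtain ⟨q, hq⟩ : ∃ q, q = p ^ f := ⟨_, rfl⟩
  obtain ⟨u, hudef⟩ : ∃ u, u = v ^ f' := ⟨_, rfl⟩
  obtain ⟨M, hMdef⟩ : ∃ M, M = ttor t (p ^ f) i := ⟨_, rfl⟩
  obtain ⟨N, hNdef⟩ : ∃ N, N = ttor t (p ^ f) j := ⟨_, rfl⟩
  obtain ⟨d, hd⟩ : ∃ d, d = Nat.gcd m (y - 1).natAbs := ⟨_, rfl⟩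
  have hMP := h.eqM
  have hMpos : 0 < M := by
    rcases Nat.eq_zero_or_pos M with h0 | h0
    · rw [hMdef] at h0
      rw [h0] at hpM
      exact absurd (dvd_zero p) hpM
    · exact h0
  have hH1 : 1 ≤ H := by
    rcases Nat.eq_zero_or_pos H with h0 | h0
    · rw [← hMdef, h0, zero_mul] at hMP
      omega
    · exact h0
  have hcopPN : Nat.Coprime (ttor t' (v ^ f') i') (ttor t (p ^ f) j) := by
    have h1 := h.copMN
    rw [hMP] at h1
    exact Nat.Coprime.coprime_mul_left h1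
  -- the cofactor
  have hH : H = 1 ∨ (5 ≤ H ∧ 6 * H ≤ u) := by
    have h2 : ¬ 2 ∣ H := by
      refine h.not_dvd_H hj Nat.prime_two ?_ (Or.inr (Or.inr hlin))
      by_cases h2 : (2 : ℕ) = v
      · exact Or.inl h2
      · right
        have hodd : v ^ f' % 2 = 1 := by
          rcases Nat.mod_two_eq_zero_or_one (v ^ f') with h3 | h3
          · exfalso
            exact h.ndu Nat.prime_two h2 (Nat.dvd_of_mod_eq_zero h3)
          · exact h3
        exact cls_le_two_of (Or.inl (by omega)) (by omega)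
    have h3 : ¬ 3 ∣ H := by
      refine h.not_dvd_H hj Nat.prime_three ?_ (Or.inr (Or.inl (by norm_num)))
      by_cases h3 : (3 : ℕ) = v
      · exact Or.inl h3
      · right
        have h4 := h.ndu Nat.prime_three h3
        have h5 : (v ^ f') % 3 = 1 ∨ (v ^ f') % 3 = 2 := by omega
        refine cls_le_two_of ?_ (by omega)
        omega
    by_cases hH5 : 5 ≤ H
    · right
      refine ⟨hH5, ?_⟩
      have h4 : H ≤ f' := Nat.le_of_dvd h.f'_pos ((h.H_dvd hj).2 hlin)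
      calc 6 * H ≤ 2 ^ H := six_mul_le hH5
        _ ≤ 2 ^ f' := Nat.pow_le_pow_right (by norm_num) h4
        _ ≤ u := by rw [hudef]; exact Nat.pow_le_pow_left h.v_prime.two_le f'
    · left
      omega
  -- divisibilities
  have hone : ua y j' ∣ N := by
    rw [← hAA, hNdef]
    exact hDv.one
  have htop : Nat.lcm (ua y j') (ua y (m - j')) ∣ d * N := by
    have h1 := hDv.top
    rw [hAA, hAA, hAA] at h1
    have h2 : ua y 1 = (y - 1).natAbs := by rw [ua, pow_one]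
    rw [h2] at h1
    rw [hd, hNdef]
    exact h1
  have hy1N : (y - 1).natAbs ∣ N := (dvd_ua y j').trans hone
  have hdy : d ∣ (y - 1).natAbs := hd ▸ Nat.gcd_dvd_right _ _
  have hdm : d ∣ m := hd ▸ Nat.gcd_dvd_left _ _
  have hpNN : ¬ p ∣ N := hNdef ▸ hpN
  have hpd : ¬ p ∣ d := fun h1 => hpNN ((h1.trans hdy).trans hy1N)
  have hpH : ¬ p ∣ H := fun h1 => hpM (h1.trans h.H_dvd_M)
  have hpy : ¬ (p : ℤ) ∣ y := by
    intro h1
    have h2 : p ∣ y.natAbs := Int.natCast_dvd.1 h1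
    rw [hyu] at h2
    exact h.ndu h.p_prime h.vp.symm h2
  have hd1 : 1 ≤ d := hd ▸ Nat.gcd_pos_of_pos_left _ (by omega)
  have hdle : d ≤ m := Nat.le_of_dvd (by omega) hdm
  have hpZ : Prime (p : ℤ) := Nat.prime_iff_prime_int.1 h.p_prime
  obtain ⟨V1, V2⟩ := hy.val (by omega) hu
  rw [← hd] at V1 V2
  rw [← hudef] at V1 V2 hyu hcopPN hMP hu
  rw [← hMdef] at hMP hlow
  rw [← hNdef] at hcopPN
  rw [← hq] at hlow hq3 hq2
  have hti := h.topi'
  rw [hy.top_iff] at hti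
  have hna := h.na'
  rw [hy.na_iff] at hna
  have hk3 := h.j'3
  have hkm := hDv.km
  have hy1pos : 0 < (y - 1).natAbs := by
    have : y.natAbs = u := hyu
    omega
  have hrel : a * (M : ℤ) = b * (N : ℤ) + c := by
    rw [hMdef, hNdef]
    exact hL.rel
  have htyp : Typ q a b c := by
    rw [hq]
    exact hL.typ
  have hT2 : ¬ T2 a b c := fun h1 => hnF (hT h1).1
  -- the numbers `i' = m - 1`
  rcases hti.2 with him | him
  · -- `i' = m`
    subst him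
    rcases hm with rfl | rfl
    · -- `m = 5`
      obtain rfl : j' = 3 := by omega
      rw [show 5 - 3 = 2 by norm_num] at htop
      have hE : d * ttor t' u 5 = (y ^ 4 + y ^ 3 + y ^ 2 + y + 1).natAbs := by
        refine Nat.eq_of_mul_eq_mul_right hy1pos ?_
        rw [← Int.natAbs_mul, show (y ^ 4 + y ^ 3 + y ^ 2 + y + 1) * (y - 1) = y ^ 5 - 1 by ring]
        rw [show ua y 5 = (y ^ 5 - 1).natAbs from rfl] at V1
        rw [← V1]
        ring
      have hTN : ((y ^ 3 - 1) * (y + 1)).natAbs ∣ d * N := by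
        refine dvd_trans ?_ htop
        have h1 : Nat.gcd (ua y 3) (ua y 2) ∣ (y - 1).natAbs := by
          have h2 : (Nat.gcd (ua y 3) (ua y 2) : ℤ) ∣ y - 1 := by
            have h3 : (Nat.gcd (ua y 3) (ua y 2) : ℤ) ∣ y ^ 3 - 1 :=
              Int.natCast_dvd.2 (Nat.gcd_dvd_left (ua y 3) (ua y 2))
            have h4 : (Nat.gcd (ua y 3) (ua y 2) : ℤ) ∣ y ^ 2 - 1 :=
              Int.natCast_dvd.2 (Nat.gcd_dvd_right (ua y 3) (ua y 2))
            have h5 := dvd_sub h3 (h4.mul_left y)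
            rwa [show y ^ 3 - 1 - y * (y ^ 2 - 1) = y - 1 by ring] at h5
          exact Int.natCast_dvd.1 h2
        have h2 := Nat.gcd_mul_lcm (ua y 3) (ua y 2)
        have h3 : ua y 3 * ua y 2 ∣ (y - 1).natAbs * Nat.lcm (ua y 3) (ua y 2) := by
          rw [← h2]
          exact Nat.mul_dvd_mul_right h1 _
        have h4 : ua y 3 * ua y 2 = (y - 1).natAbs * ((y ^ 3 - 1) * (y + 1)).natAbs := by
          rw [ua, ua, ← Int.natAbs_mul, ← Int.natAbs_mul]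
          congr 1
          ring
        rw [h4] at h3
        exact Nat.dvd_of_mul_dvd_mul_left hy1pos h3
      have hpK : ¬ (p : ℤ) ∣ (y ^ 3 - 1) * (y + 1) := by
        intro h1
        rcases h.p_prime.dvd_mul.1 ((Int.natCast_dvd.1 h1).trans hTN) with h2 | h2
        · exact hpd h2
        · exact hpNN h2
      have key := rel_core (μ := 1) (E := y ^ 4 + y ^ 3 + y ^ 2 + y + 1) (K := (y ^ 3 - 1) * (y + 1))
        (ρ := y ^ 2 + 2 * y + 2) (d := d) (T := ((y ^ 3 - 1) * (y + 1)).natAbs) h.p_prime (hq ▸ hpq) hq3 hrel htyp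
        (by rw [← hE, hMP]; ring) (by ring) (Int.natAbs_dvd.2 dvd_rfl) hTN hpH hpd
        (fun h1 => hpZ.not_unit (isUnit_of_dvd_one h1)) hpK
      rcases key with key | ⟨h1, -⟩
      · have h1 := t5_ge hyu hu
        have h2 := r5_le hyu
        have h3 : H * (y ^ 2 + 2 * y + 2).natAbs + Int.natAbs 1 * d * (q + 1) ≤
            H * (u ^ 2 + 2 * u + 2) + 5 * (q + 1) := by
          have h4 : Int.natAbs 1 * d * (q + 1) = d * (q + 1) := by simp
          rw [h4]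
          exact Nat.add_le_add (Nat.mul_le_mul_left _ h2) (Nat.mul_le_mul_right _ hdle)
        have h4 : (q + 1) * (H * (y ^ 2 + 2 * y + 2).natAbs + Int.natAbs 1 * d * (q + 1)) ≤
            (q + 1) * (H * (u ^ 2 + 2 * u + 2) + 5 * (q + 1)) := Nat.mul_le_mul_left _ h3
        have h5 : M ≤ H * (2 * u ^ 4) := by
          rw [hMP]
          refine Nat.mul_le_mul_left _ ?_
          calc ttor t' u 5 ≤ d * ttor t' u 5 := Nat.le_mul_of_pos_left _ hd1
            _ ≤ 2 * u ^ 4 := by rw [hE]; exact e5_le hyu hu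
        refine num5 hq3 hu hH ?_ (by omega)
        exact hlow.trans (Nat.add_le_add_right (Nat.mul_le_mul_left _ (Nat.mul_le_mul_left _ h5)) 1)
      · exact hT2 h1
    · -- `m = 6`
      obtain rfl : j' = 4 := by
        have h1 : j' ≠ 3 := by
          rintro rfl
          exact hna.2.2 ⟨2, rfl⟩
        omega
      have hE : d * ttor t' u 6 = (y ^ 5 + y ^ 4 + y ^ 3 + y ^ 2 + y + 1).natAbs := by
        refine Nat.eq_of_mul_eq_mul_right hy1pos ?_
        rw [← Int.natAbs_mul, show (y ^ 5 + y ^ 4 + y ^ 3 + y ^ 2 + y + 1) * (y - 1) = y ^ 6 - 1 by ring]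
        rw [show ua y 6 = (y ^ 6 - 1).natAbs from rfl] at V1
        rw [← V1]
        ring
      have hTN : (y ^ 3 + y ^ 2 + y + 1).natAbs ∣ N := by
        refine dvd_trans ?_ hone
        refine ⟨(y - 1).natAbs, ?_⟩
        rw [← Int.natAbs_mul, show (y ^ 3 + y ^ 2 + y + 1) * (y - 1) = y ^ 4 - 1 by ring]
        rfl
      have hpK : ¬ (p : ℤ) ∣ y ^ 2 * (y ^ 3 + y ^ 2 + y + 1) := by
        intro h1
        rcases hpZ.dvd_or_dvd h1 with h2 | h2
        · exact hpy (hpZ.dvd_of_dvd_pow h2)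
        · exact hpNN ((Int.natCast_dvd.1 h2).trans hTN)
      have key := rel_core (μ := 1) (E := y ^ 5 + y ^ 4 + y ^ 3 + y ^ 2 + y + 1)
        (K := y ^ 2 * (y ^ 3 + y ^ 2 + y + 1)) (ρ := y + 1) (d := d) (T := (y ^ 3 + y ^ 2 + y + 1).natAbs)
        h.p_prime (hq ▸ hpq) hq3 hrel htyp (by rw [← hE, hMP]; ring) (by ring)
        (Dvd.dvd.mul_left (Int.natAbs_dvd.2 dvd_rfl) _) (hTN.mul_left d) hpH hpd
        (fun h1 => hpZ.not_unit (isUnit_of_dvd_one h1)) hpK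
      rcases key with key | ⟨h1, -⟩
      · have h1 := t6_ge hyu hu
        have h2 : (y + 1).natAbs ≤ u + 1 := by omega
        have h3 : H * (y + 1).natAbs + Int.natAbs 1 * d * (q + 1) ≤ H * (u + 1) + 6 * (q + 1) := by
          have h4 : Int.natAbs 1 * d * (q + 1) = d * (q + 1) := by simp
          rw [h4]
          exact Nat.add_le_add (Nat.mul_le_mul_left _ h2) (Nat.mul_le_mul_right _ hdle)
        have h4 : (q + 1) * (H * (y + 1).natAbs + Int.natAbs 1 * d * (q + 1)) ≤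
            (q + 1) * (H * (u + 1) + 6 * (q + 1)) := Nat.mul_le_mul_left _ h3
        have h5 : M ≤ H * (2 * u ^ 5) := by
          rw [hMP]
          refine Nat.mul_le_mul_left _ ?_
          calc ttor t' u 6 ≤ d * ttor t' u 6 := Nat.le_mul_of_pos_left _ hd1
            _ ≤ 2 * u ^ 5 := by rw [hE]; exact e6_le hyu hu
        obtain ⟨h6, h7, h8⟩ := num6 hq3 hu hH
          (hlow.trans (Nat.add_le_add_right (Nat.mul_le_mul_left _ (Nat.mul_le_mul_left _ h5)) 1)) (by omega)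
        obtain ⟨c1, c2⟩ := ck6_of ht hq3 h7 hq2 hu h8 hi78
        rw [h6, one_mul] at hMP
        have h9 : M * d * (y - 1).natAbs = u ^ 6 - 1 := by
          rw [hMP, mul_assoc, V1, ua]
          have h10 : y ^ 6 = (u : ℤ) ^ 6 := by
            rcases Int.natAbs_eq y with h | h <;> rw [hyu] at h <;> rw [h] <;> ring
          rw [h10, show (u : ℤ) ^ 6 - 1 = ((u ^ 6 - 1 : ℕ) : ℤ) by
            rw [Nat.cast_sub (Nat.one_le_pow _ _ (by omega))]; push_cast; ring, Int.natAbs_natCast]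
        rw [hMdef, ← hq, hd] at h9
        rcases hy with ⟨-, rfl⟩ | ⟨-, rfl⟩
        · have e1 : (((v ^ f' : ℕ) : ℤ) - 1).natAbs = u - 1 := by rw [← hudef]; omega
          rw [e1] at h9
          exact c1 h9
        · have e1 : (-((v ^ f' : ℕ) : ℤ) - 1).natAbs = u + 1 := by rw [← hudef]; omega
          rw [e1] at h9
          exact c2 h9
      · exact hT2 h1
  · -- `i' = m - 1`
    obtain rfl : i' = m - 1 := by omega
    rcases hm with rfl | rfl
    · -- `m = 5`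
      obtain rfl : j' = 3 := by omega
      rw [show 5 - 3 = 2 by norm_num] at htop
      rw [show 5 - 1 = 4 by norm_num] at V2 hcopPN
      have h1 : ua y 2 ∣ d * N := (Nat.dvd_lcm_right _ _).trans htop
      have h2 : ua y 2 ∣ d * ttor t' u 4 := by
        rw [mul_comm, V2]
        have h3 : y ^ 2 - 1 ∣ y ^ 4 - 1 := ⟨y ^ 2 + 1, by ring⟩
        exact Int.natAbs_dvd_natAbs.2 h3
      have h3 : ua y 2 ∣ d := by
        have h4 := Nat.dvd_gcd h2 h1
        rw [Nat.gcd_mul_left, hcopPN, mul_one] at h4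
        exact h4
      have h4 := h3.trans hdm
      have h5 : ua y 2 = u ^ 2 - 1 := by
        have h10 : y ^ 2 = (u : ℤ) ^ 2 := by
          rcases Int.natAbs_eq y with h | h <;> rw [hyu] at h <;> rw [h] <;> ring
        rw [ua, h10, show (u : ℤ) ^ 2 - 1 = ((u ^ 2 - 1 : ℕ) : ℤ) by
          rw [Nat.cast_sub (Nat.one_le_pow _ _ (by omega))]; push_cast; ring, Int.natAbs_natCast]
      rw [h5] at h4
      have h6 := Nat.le_of_dvd (by norm_num) h4
      have h7 : u ≤ 2 := by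
        by_contra hcon
        have : 3 ^ 2 ≤ u ^ 2 := Nat.pow_le_pow_left (by omega) 2
        omega
      obtain rfl : u = 2 := by omega
      norm_num at h4
    · -- `m = 6`
      rw [show 6 - 1 = 5 by norm_num] at V2 hcopPN hMP
      have h2 : (y - 1).natAbs ∣ d * ttor t' u 5 := by
        rw [mul_comm, V2]
        exact dvd_ua y 5
      have h3 : (y - 1).natAbs ∣ d := by
        have h4 := Nat.dvd_gcd h2 (hy1N.mul_left d)
        rw [Nat.gcd_mul_left, hcopPN, mul_one] at h4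
        exact h4
      have hdd : d = (y - 1).natAbs := Nat.dvd_antisymm hdy h3
      have h4 := h3.trans hdm
      have h5 : (y - 1).natAbs ≤ 6 := Nat.le_of_dvd (by norm_num) h4
      have hu7 : u ≤ 7 := by omega
      have hH' : H = 1 := by
        rcases hH with h6 | ⟨h6, h7⟩
        · exact h6
        · omega
      rw [hH', one_mul] at hMP
      rw [hdd] at V2
      have hy7 : y ∈ [2, 3, 4, 7, -2, (-5 : ℤ)] := by
        have hyr : -7 ≤ y ∧ y ≤ 7 := by omega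
        have hy2 : y ≤ -2 ∨ 2 ≤ y := by omega
        obtain ⟨h8, h9⟩ := hyr
        interval_cases y <;> revert h4 <;> simp <;> omega
      have hM : M ∈ [31, 121, 341, 2801, 11, 521] := by
        rw [hMP]
        simp only [List.mem_cons, List.mem_nil_iff, or_false] at hy7 ⊢
        rcases hy7 with rfl | rfl | rfl | rfl | rfl | rfl <;> norm_num [ua] at V2 <;> omega
      have hM2 : M ≤ 2801 := by
        simp only [List.mem_cons, List.mem_nil_iff, or_false] at hM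
        omega
      have hq5 : q < 5 := by
        by_contra hcon
        have h6 : q ^ 8 ≤ 8 * ((q + 1) * 2801) + 1 :=
          hlow.trans (Nat.add_le_add_right (Nat.mul_le_mul_left _ (Nat.mul_le_mul_left _ hM2)) 1)
        have h7 : 5 ^ 7 ≤ q ^ 7 := Nat.pow_le_pow_left (by omega) 7
        have h8 : q ^ 8 = q * q ^ 7 := by ring
        have h9 : q * 5 ^ 7 ≤ q * q ^ 7 := Nat.mul_le_mul_left _ h7
        omega
      obtain rfl : q = 3 := by omega
      rw [hMdef, ← hq] at hM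
      exact ck65 ht hi78 hM

end Cfsg.Agent.R2.Spec.SDL
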