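import Cfsg.Agent.R2.Spec.SDL.NonA
import Cfsg.Agent.R2.Spec.E.NonC
import Cfsg.Agent.R2.Spec.E.NonD

/-!
# S3435, SMALLD, `L = L_8(q)`, `U_8(q)` (helper19): `S = PSp_6(u)`, `Ω_7(u)`, `PΩ^+_8(u)`, the second class not isolated
-/

set_option autoImplicit false
set_option linter.unusedSectionVars false

namespace Cfsg.Agent.R2.Spec.SDL

open Cfsg Cfsg.Agent.H426.LieFam Cfsg.Agent.R2.Spec Cfsg.Agent.R2.Spec.P1 Cfsg.Agent.R2.Spec.F1
open Cfsg.Agent.R2.Spec.E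
open Cfsg.Agent.R2.Spec.P1.Eig (AN AN_one AN_neg)

theorem low_104 {q M : ℕ} (hq : 3 ≤ q) (h : q ^ 8 ≤ 8 * ((q + 1) * M) + 1) (hM : M ≤ 104) : False := by
  have h1 : q ^ 8 ≤ 8 * ((q + 1) * 104) + 1 :=
    h.trans (Nat.add_le_add_right (Nat.mul_le_mul_left _ (Nat.mul_le_mul_left _ hM)) 1)
  have h2 : 3 ^ 7 ≤ q ^ 7 := Nat.pow_le_pow_left hq 7
  have h3 : q ^ 8 = q * q ^ 7 := by ring
  have h4 : q * 3 ^ 7 ≤ q * q ^ 7 := Nat.mul_le_mul_left _ h2
  omega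

/-- the value of `P` if `u ± 1` divides `g` -/
theorem P_small {u g P ε : ℕ} (hu : 2 ≤ u) (hg : g = Nat.gcd 2 (u - 1))
    (h : (ε = 0 ∧ P * g = u ^ 3 - 1 ∧ u - 1 ∣ g) ∨ (ε = 1 ∧ P * g = u ^ 3 + 1 ∧ u + 1 ∣ g)) :
    u ≤ 3 ∧ P ≤ 13 := by
  have hg2 : g ≤ 2 := hg ▸ Nat.gcd_le_left _ (by norm_num)
  have hg1 : 0 < g := hg ▸ Nat.gcd_pos_of_pos_left _ (by norm_num)
  rcases h with ⟨-, h1, h2⟩ | ⟨-, h1, h2⟩
  · have h3 := Nat.le_of_dvd hg1 h2
    have hu3 : u ≤ 3 := by omega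
    refine ⟨hu3, ?_⟩
    interval_cases u
    · have hg' : g = 1 := by rw [hg]; norm_num
      rw [hg'] at h1
      omega
    · have hg' : g = 2 := by rw [hg]; norm_num
      rw [hg'] at h1
      omega
  · have h3 := Nat.le_of_dvd hg1 h2
    omega

variable {t t' : Fam} {p f i j v f' i' j' w H : ℕ} {S : Type} [Group S] [Finite S]

theorem f_one {v f : ℕ} (hv : v.Prime) (hf : 1 ≤ f) (h : v ^ f ≤ 3) : f = 1 :=
  f_one_of_small hv hf (by omega) (by omega)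

/-- **`S = PSp_6(u)`, `Ω_7(u)`, `PΩ^+_8(u)`, the second class is not isolated.** -/
theorem nonS3 (h : Duel t p f i j t' v f' i' j' w H S) (ht : t = .psl 8 ∨ t = .psu 8)
    (ht' : t' = .psp 3 ∨ t' = .oodd 3 ∨ t' = .oplus 4) (hj : ¬ top t' j') : False := by
  obtain ⟨hq3, hq2⟩ := f_q h.p_prime h.p_ne h.f_pos
  have hu := h.u_two
  have hlow := lowM8 ht hq3 h.pair
  have hMP := h.eqM
  have hcopPN : Nat.Coprime (ttor t' (v ^ f') i') (ttor t (p ^ f) j) := by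
    have h1 := h.copMN
    rw [hMP] at h1
    exact Nat.Coprime.coprime_mul_left h1
  have key : v ^ f' ≤ 3 ∧ ttor t' (v ^ f') i' ≤ 13 := by
    obtain ⟨u, hudef⟩ : ∃ u, u = v ^ f' := ⟨_, rfl⟩
    rcases ht' with ht' | ht' | ht'
    · -- `PSp_6`
      have hm : j' = 4 := by
        have h1 := h.memj'
        have h2 := h.j'3
        rw [ht'] at h1 hj
        have h3 : eta j' ≤ 3 := h1
        have h4 : ¬ (j' = 2 * 3 ∨ (j' = 3 ∧ 3 % 2 = 1)) := hj
        rcases eta_cases j' with ⟨h5, h6⟩ | ⟨h5, h6⟩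
        · rw [Nat.odd_iff] at h5; omega
        · rw [Nat.even_iff] at h5; omega
      have hg : (Nat.gcd 2 (v ^ f' - 1) = 1 ∧ (v ^ f') % 2 = 0) ∨ (Nat.gcd 2 (v ^ f' - 1) = 2 ∧ (v ^ f') % 2 = 1) := by
        rcases Nat.mod_two_eq_zero_or_one (v ^ f') with h1 | h1
        · exact Or.inl ⟨gcd_two_even hu h1, h1⟩
        · exact Or.inr ⟨gcd_two_odd h1, h1⟩
      have hb1 := (h.blkN (m := 3) (Or.inl ht') (b := 1) le_rfl (by rw [hm]; decide) (δ' := 1) (Or.inl rfl) hg).2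
      have hb2 := (h.blkN (m := 3) (Or.inl ht') (b := 1) le_rfl (by rw [hm]; decide) (δ' := -1) (Or.inr rfl) hg).2
      rw [AN_one, pow_one] at hb1
      rw [AN_neg, pow_one] at hb2
      obtain ⟨v1, v2⟩ := val_psp (n := 3) (q := v ^ f') (by norm_num) hu
      have hi := h.topi'
      rw [ht'] at hi hcopPN ⊢
      have hi' : i' = 2 * 3 ∨ (i' = 3 ∧ 3 % 2 = 1) := hi
      rcases hi' with rfl | ⟨rfl, -⟩
      · refine P_small hu rfl (ε := 1) (Or.inr ⟨rfl, v1, ?_⟩)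
        have h1 : v ^ f' + 1 ∣ Nat.gcd 2 (v ^ f' - 1) * ttor (.psp 3) (v ^ f') (2 * 3) := by
          rw [mul_comm, v1]
          exact ⟨(v ^ f') ^ 2 - v ^ f' + 1, by
            obtain ⟨z, hz⟩ : ∃ z, v ^ f' = z + 1 := ⟨v ^ f' - 1, by omega⟩
            rw [hz]
            have : (z + 1) ^ 2 - (z + 1) = z ^ 2 + z := by
              have : (z + 1) ^ 2 = z ^ 2 + z + (z + 1) := by ring
              omega
            rw [this]
            ring⟩
        have h2 := Nat.dvd_gcd h1 hb2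
        rwa [Nat.gcd_mul_left, hcopPN, mul_one] at h2
      · refine P_small hu rfl (ε := 0) (Or.inl ⟨rfl, v2, ?_⟩)
        have h1 : v ^ f' - 1 ∣ Nat.gcd 2 (v ^ f' - 1) * ttor (.psp 3) (v ^ f') 3 := by
          rw [mul_comm, v2]
          exact Nat.sub_one_dvd_pow_sub_one _ 3
        have h2 := Nat.dvd_gcd h1 hb1
        rwa [Nat.gcd_mul_left, hcopPN, mul_one] at h2
    · -- `Ω_7`
      have hm : j' = 4 := by
        have h1 := h.memj'
        have h2 := h.j'3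
        rw [ht'] at h1 hj
        have h3 : eta j' ≤ 3 := h1
        have h4 : ¬ (j' = 2 * 3 ∨ (j' = 3 ∧ 3 % 2 = 1)) := hj
        rcases eta_cases j' with ⟨h5, h6⟩ | ⟨h5, h6⟩
        · rw [Nat.odd_iff] at h5; omega
        · rw [Nat.even_iff] at h5; omega
      have hg : (Nat.gcd 2 (v ^ f' - 1) = 1 ∧ (v ^ f') % 2 = 0) ∨ (Nat.gcd 2 (v ^ f' - 1) = 2 ∧ (v ^ f') % 2 = 1) := by
        rcases Nat.mod_two_eq_zero_or_one (v ^ f') with h1 | h1
        · exact Or.inl ⟨gcd_two_even hu h1, h1⟩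
        · exact Or.inr ⟨gcd_two_odd h1, h1⟩
      have hb1 := (h.blkN (m := 3) (Or.inr ht') (b := 1) le_rfl (by rw [hm]; decide) (δ' := 1) (Or.inl rfl) hg).2
      have hb2 := (h.blkN (m := 3) (Or.inr ht') (b := 1) le_rfl (by rw [hm]; decide) (δ' := -1) (Or.inr rfl) hg).2
      rw [AN_one, pow_one] at hb1
      rw [AN_neg, pow_one] at hb2
      obtain ⟨v1, v2⟩ := val_psp (n := 3) (q := v ^ f') (by norm_num) hu
      have hi := h.topi'
      rw [ht', ttor_oodd] at hcopPN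
      rw [ht', ttor_oodd]
      rw [ht'] at hi
      have hi' : i' = 2 * 3 ∨ (i' = 3 ∧ 3 % 2 = 1) := hi
      rcases hi' with rfl | ⟨rfl, -⟩
      · refine P_small hu rfl (ε := 1) (Or.inr ⟨rfl, v1, ?_⟩)
        have h1 : v ^ f' + 1 ∣ Nat.gcd 2 (v ^ f' - 1) * ttor (.psp 3) (v ^ f') (2 * 3) := by
          rw [mul_comm, v1]
          exact ⟨(v ^ f') ^ 2 - v ^ f' + 1, by
            obtain ⟨z, hz⟩ : ∃ z, v ^ f' = z + 1 := ⟨v ^ f' - 1, by omega⟩
            rw [hz]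
            have : (z + 1) ^ 2 - (z + 1) = z ^ 2 + z := by
              have : (z + 1) ^ 2 = z ^ 2 + z + (z + 1) := by ring
              omega
            rw [this]
            ring⟩
        have h2 := Nat.dvd_gcd h1 hb2
        rwa [Nat.gcd_mul_left, hcopPN, mul_one] at h2
      · refine P_small hu rfl (ε := 0) (Or.inl ⟨rfl, v2, ?_⟩)
        have h1 : v ^ f' - 1 ∣ Nat.gcd 2 (v ^ f' - 1) * ttor (.psp 3) (v ^ f') 3 := by
          rw [mul_comm, v2]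
          exact Nat.sub_one_dvd_pow_sub_one _ 3
        have h2 := Nat.dvd_gcd h1 hb1
        rwa [Nat.gcd_mul_left, hcopPN, mul_one] at h2
    · -- `PΩ^+_8`
      obtain ⟨hk2, hkm, -⟩ := h.etaD (m := 4) (Or.inl ht') le_rfl hj
      have hcop := h.copPD (m := 4) (Or.inl ht') hj hkm
      obtain ⟨v1, v2⟩ := val_oplus_even (n := 4) (q := v ^ f') le_rfl (by norm_num) hu
      have hi := h.topi'
      rw [ht'] at hi hcop ⊢
      have hi' : (i' = 4 ∧ 4 % 2 = 1) ∨ i' = 2 * (4 - 1) ∨ (i' = 4 - 1 ∧ 4 % 2 = 0) := hi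
      have hc1 : Nat.Coprime (ttor (.oplus 4) (v ^ f') i') (v ^ f' - 1) := Nat.Coprime.coprime_mul_right_right hcop
      have hc2 : Nat.Coprime (ttor (.oplus 4) (v ^ f') i') (v ^ f' + 1) := Nat.Coprime.coprime_mul_left_right hcop
      rcases hi' with ⟨-, h0⟩ | rfl | ⟨rfl, -⟩
      · omega
      · refine P_small hu rfl (ε := 1) (Or.inr ⟨rfl, v1, ?_⟩)
        have h1 : v ^ f' + 1 ∣ ttor (.oplus 4) (v ^ f') (2 * (4 - 1)) * Nat.gcd 2 (v ^ f' - 1) := by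
          rw [v1]
          exact ⟨(v ^ f') ^ 2 - v ^ f' + 1, by
            obtain ⟨z, hz⟩ : ∃ z, v ^ f' = z + 1 := ⟨v ^ f' - 1, by omega⟩
            rw [hz]
            have : (z + 1) ^ 2 - (z + 1) = z ^ 2 + z := by
              have : (z + 1) ^ 2 = z ^ 2 + z + (z + 1) := by ring
              omega
            rw [this]
            ring⟩
        exact hc2.symm.dvd_of_dvd_mul_left h1
      · refine P_small hu rfl (ε := 0) (Or.inl ⟨rfl, v2, ?_⟩)
        have h1 : v ^ f' - 1 ∣ ttor (.oplus 4) (v ^ f') (4 - 1) * Nat.gcd 2 (v ^ f' - 1) := by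
          rw [v2]
          exact Nat.sub_one_dvd_pow_sub_one _ 3
        exact hc1.symm.dvd_of_dvd_mul_left h1
  obtain ⟨hu3, hP⟩ := key
  have hf1 := f_one h.v_prime h.f'_pos hu3
  have hH8 : H ≤ 8 := by
    have h1 := (h.H_dvd hj).1
    rw [hf1] at h1
    exact Nat.le_of_dvd (by norm_num) h1
  refine low_104 hq3 hlow ?_
  rw [hMP]
  calc H * ttor t' (v ^ f') i' ≤ 8 * 13 := Nat.mul_le_mul hH8 hP
    _ = 104 := rfl

end Cfsg.Agent.R2.Spec.SDL
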