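import Cfsg.Agent.R2.Spec.SDL.Seven

/-!
# S3435, SMALLD, `L = L_8(q)`, `U_8(q)` (helper19): both classes isolated, the data `Pr8`

* `canc` : the part of the cofactor dividing `c` cancels;
* `Pr8` : the data of the two numbers; `Duel.pr8` : exotic or `Pr8`.
-/

set_option autoImplicit false
set_option linter.unusedSectionVars false

namespace Cfsg.Agent.R2.Spec.SDL

open Cfsg Cfsg.Agent.H426.LieFam Cfsg.Agent.R2.Spec Cfsg.Agent.R2.Spec.P1 Cfsg.Agent.R2.Spec.F1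
open Cfsg.Agent.R2.Spec.E

theorem canc {M N P Q a b c a' b' c' H' : ℤ} {H C : ℕ} (hrel : a * M = b * N + c) (heq : a' * P = b' * Q + c')
    (hM : M = H * P) (hN : N = H' * Q) (ha : 0 ≤ a) (ha' : 0 ≤ a') (hC : |c| = C) (hC1 : 1 ≤ C)
    (hb : (C : ℤ) ∣ b) (hH : H ∣ C * 7) (hne : a' * c - a * H * c' ≠ 0) : Q ≤ a' * |c| + 7 * (a * |c'|) := by
  obtain ⟨g, hg⟩ : ∃ g, g = Nat.gcd H C := ⟨_, rfl⟩
  have hg0 : 0 < g := by rw [hg]; exact Nat.gcd_pos_of_pos_right _ hC1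
  obtain ⟨h1, hh1⟩ : g ∣ H := hg ▸ Nat.gcd_dvd_left _ _
  obtain ⟨c1, hc1⟩ : g ∣ C := hg ▸ Nat.gcd_dvd_right _ _
  have hcop : Nat.Coprime h1 c1 := by
    have h2 := Nat.gcd_mul_left g h1 c1
    rw [← hh1, ← hc1, ← hg] at h2
    have h3 : g * Nat.gcd h1 c1 = g * 1 := by rw [mul_one]; exact h2.symm
    exact Nat.eq_of_mul_eq_mul_left hg0 h3
  have h17 : h1 ∣ 7 := by
    rw [hh1, hc1, mul_assoc] at hH
    have h2 := Nat.dvd_of_mul_dvd_mul_left hg0 hH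
    exact hcop.dvd_of_dvd_mul_left h2
  have h17' : h1 ≤ 7 := Nat.le_of_dvd (by norm_num) h17
  obtain ⟨c2, hc2, hc2'⟩ : ∃ c2 : ℤ, c = g * c2 ∧ |c2| = c1 := by
    rcases abs_choice c with h2 | h2
    · refine ⟨c1, ?_, Nat.abs_cast _⟩
      rw [h2] at hC
      rw [hC, hc1]
      push_cast
      ring
    · refine ⟨-c1, ?_, by rw [abs_neg, Nat.abs_cast]⟩
      rw [h2] at hC
      rw [show c = -(-c) by ring, hC, hc1]
      push_cast
      ring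
  obtain ⟨b1, hb1⟩ := hb
  have hb2 : b = g * (c1 * b1) := by
    rw [hb1, hc1]
    push_cast
    ring
  have hgz : (g : ℤ) ≠ 0 := by exact_mod_cast hg0.ne'
  have hHz : (H : ℤ) = g * h1 := by exact_mod_cast hh1
  have key : Q * (a * b' * h1 - a' * (c1 * b1) * H') = a' * c2 - a * h1 * c' := by
    apply mul_left_cancel₀ hgz
    rw [hM, hN, hc2, hb2, hHz] at hrel
    linear_combination a' * hrel - a * (g * h1) * heq
  have hne2 : a' * c2 - a * h1 * c' ≠ 0 := by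
    intro h0
    apply hne
    rw [hc2, hHz]
    linear_combination (g : ℤ) * h0
  have h3 : Q ≤ |a' * c2 - a * h1 * c'| := by
    exact Int.le_of_dvd (abs_pos.2 hne2) ((dvd_abs _ _).2 (Dvd.intro _ key))
  have h4 : |a' * c2 - a * h1 * c'| ≤ a' * |c2| + a * h1 * |c'| := by
    refine (abs_sub _ _).trans ?_
    rw [abs_mul, abs_mul, abs_mul, abs_of_nonneg ha', abs_of_nonneg ha, Nat.abs_cast]
  have h5 : |c2| ≤ |c| := by
    rw [hc2, abs_mul, Nat.abs_cast]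
    have h6 : (1 : ℤ) ≤ g := by exact_mod_cast hg0
    have h7 := abs_nonneg c2
    nlinarith
  have h6 : a * h1 * |c'| ≤ 7 * (a * |c'|) := by
    have h7 : (0 : ℤ) ≤ a * |c'| := mul_nonneg ha (abs_nonneg _)
    have h8 : (h1 : ℤ) ≤ 7 := by exact_mod_cast h17'
    calc a * h1 * |c'| = h1 * (a * |c'|) := by ring
      _ ≤ 7 * (a * |c'|) := mul_le_mul_of_nonneg_right h8 h7
  have h7 : a' * |c2| ≤ a' * |c| := mul_le_mul_of_nonneg_left h5 ha'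
  omega

/-- the data of the two isolated numbers : `x7`, `x8` the classes of `S` corresponding to the classes `7`, `8` of `L` -/
structure Pr8 (t : Fam) (q : ℕ) (t' : Fam) (u x7 x8 : ℕ) (k d : ℕ) (α β e C : ℤ) : Prop where
  top7 : top t' x7
  top8 : top t' x8
  ne : x7 ≠ x8
  dvd7 : ttor t' u x7 ∣ ttor t q 7
  dvd8 : ttor t' u x8 ∣ ttor t q 8
  pos7 : 1 ≤ ttor t' u x7
  pos8 : 1 ≤ ttor t' u x8
  le7 : q ^ 7 ≤ 7 * ((q + 1) * ttor t' u x7) + 1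
  le8 : (ttor t' u x8 : ℤ) ≤ α * C + 7 * (q * |e|)
  C1 : 1 ≤ C
  C2 : 2 * C ≤ q + 1
  eq : α * ttor t' u x7 = β * ttor t' u x8 + e
  α1 : 1 ≤ α
  α2 : α ≤ u + 1
  β1 : 1 ≤ β
  β3 : β ≤ 3 * α
  k3 : k ≤ 3
  lin : k = 0 → ((∃ m, t' = .psl m ∧ d = Nat.gcd m (u - 1)) ∨ (∃ m, t' = .psu m ∧ d = Nat.gcd m (u + 1))) ∧
    d * |e| ≤ u + 1
  lk : (∃ m, t' = .psl m ∨ t' = .psu m) → k = 0
  sp : (∃ m, t' = .psp m ∨ t' = .oodd m ∨ (t' = .oplus m ∧ m % 2 = 0)) → k = 1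
  k1 : k = 1 → |e| ≤ 2 ∧ α = 1 ∧ β = 1
  e2 : |e| ≤ 2 * (u + 1) ^ 2
  e0 : 1 ≤ |e|

section

variable {t t' : Fam} {p f i j v f' i' j' w H : ℕ} {S : Type} [Group S]

theorem dg_even {t : Fam} {q : ℕ} (ht : t = .psl 8 ∨ t = .psu 8) (hq2 : q % 2 = 1) : 2 ≤ dgL t q := by
  have h2 : 2 ∣ dgL t q := by
    rcases ht with rfl | rfl
    · exact Nat.dvd_gcd (by norm_num) (by omega)
    · exact Nat.dvd_gcd (by norm_num) (by omega)
  have h3 : 0 < dgL t q := by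
    rcases ht with rfl | rfl
    · exact Nat.gcd_pos_of_pos_left _ (by norm_num)
    · exact Nat.gcd_pos_of_pos_left _ (by norm_num)
  exact Nat.le_of_dvd h3 h2

/-- `q ^ 7 - 1 ≤ 7 (q + 1) P` -/
theorem le_seven {t : Fam} {q H P C : ℕ} (ht : t = .psl 8 ∨ t = .psu 8) (hq : 3 ≤ q) (hM : ttor t q 7 = H * P)
    (hC : C * dgL t q = usg t q) (hC1 : 1 ≤ C) (hH : H ∣ C * 7) : q ^ 7 ≤ 7 * ((q + 1) * P) + 1 := by
  obtain ⟨h1, h2, h3, h4, h5⟩ := val_seven ht hq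
  have h6 : q ^ 7 ≤ (sg t q ^ 7 - 1).natAbs + 1 := by
    rcases ht with rfl | rfl
    · have h7 : ((q : ℤ) ^ 7 - 1).natAbs = q ^ 7 - 1 := by
        have h8 : ((q : ℤ) ^ 7 - 1) = ((q ^ 7 - 1 : ℕ) : ℤ) := by
          rw [Nat.cast_sub (Nat.one_le_pow 7 q (by omega))]
          push_cast
          ring
        rw [h8, Int.natAbs_natCast]
      change q ^ 7 ≤ ((q : ℤ) ^ 7 - 1).natAbs + 1
      omega
    · have h7 : ((-(q : ℤ)) ^ 7 - 1).natAbs = q ^ 7 + 1 := by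
        have h8 : ((-(q : ℤ)) ^ 7 - 1) = -((q ^ 7 + 1 : ℕ) : ℤ) := by
          push_cast
          ring
        rw [h8, Int.natAbs_neg, Int.natAbs_natCast]
      change q ^ 7 ≤ ((-(q : ℤ)) ^ 7 - 1).natAbs + 1
      omega
  rw [← h1, hM] at h6
  have h7 : H ≤ C * 7 := Nat.le_of_dvd (by omega) hH
  calc q ^ 7 ≤ H * P * dgL t q + 1 := h6
    _ ≤ C * 7 * P * dgL t q + 1 := Nat.add_le_add_right (Nat.mul_le_mul_right _ (Nat.mul_le_mul_right _ h7)) 1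
    _ = 7 * (C * dgL t q * P) + 1 := by ring
    _ ≤ 7 * ((q + 1) * P) + 1 := by
      rw [hC]
      exact Nat.add_le_add_right (Nat.mul_le_mul_left _ (Nat.mul_le_mul_right _ h5)) 1

/-- **Both classes isolated: exotic or `Pr8`.** -/
theorem pr8 (h : Duel t p f i j t' v f' i' j' w H S) (ht : t = .psl 8 ∨ t = .psu 8) (hr' : RkS t')
    (hj : top t' j') :
    (∃ H' : ℕ, ttor t (p ^ f) j = H' * ttor t' (v ^ f') j' ∧ Exo t (p ^ f) t' (v ^ f') i j i' j' H H') ∨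
      ∃ x7 x8 k d, ∃ α β e C : ℤ, Pr8 t (p ^ f) t' (v ^ f') x7 x8 k d α β e C := by
  have hr : 4 ≤ rk t := by
    rcases ht with rfl | rfl
    · exact (by decide : 4 ≤ 8)
    · exact (by decide : 4 ≤ 8)
  obtain ⟨H', k, d, s', a, b, c, a', b', c', hN, hL, hk, hS, hH1, hH1', hP1, hQ1, h1⟩ := h.iso_raw hr hr' hj
  rcases h1 with h1 | ⟨-, -, -, hne1, -, hne2⟩
  · exact Or.inl ⟨H', hN, h1⟩
  right
  obtain ⟨hq3, hq2⟩ := f_q h.p_prime h.p_ne h.f_pos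
  obtain ⟨ha1, ha2, hb1, hb2, hc, hM1, hN1⟩ := hL.sz hq3
  have hu : 2 ≤ v ^ f' := h.v_prime.two_le.trans (Nat.le_self_pow (by have := h.f'_pos; omega) v)
  obtain ⟨ha1', ha2', hb1', hb2', hab', hba', hd0, -, hk1, hc', hk3, hc0'⟩ := hS.rel.sz hu
  have hM := h.eqM
  obtain ⟨H'', hN', hcop'⟩ := h.copH' hj
  have hHH : H'' = H' := by
    rw [hN] at hN'
    exact (Nat.eq_of_mul_eq_mul_right (by omega) hN').symm
  rw [hHH] at hcop'
  have hdg := dg_even ht hq2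
  -- the coefficients
  obtain ⟨n, s, hn, hs, hcd, hij⟩ : ∃ (n : ℕ) (s : ℤ), n = 8 ∧ ((p ^ f : ℕ) : ℤ) + s = usg t (p ^ f) ∧
      |c| * dgL t (p ^ f) = (p ^ f : ℕ) + s ∧
      ((i = n ∧ j + 1 = n ∧ a = (p ^ f : ℕ) + s ∧ b = (p ^ f : ℕ)) ∨
        (i + 1 = n ∧ j = n ∧ a = (p ^ f : ℕ) ∧ b = (p ^ f : ℕ) + s)) := by
    rcases hk with ⟨n, s, h2, h3, h4, h5⟩ | ⟨n, d, s, τ, X, h2, -⟩ | ⟨h2, -⟩
    · refine ⟨n, s, ?_, h3, h4, h5⟩
      rcases ht with rfl | rfl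
      · rcases h2 with h2 | h2
        · cases h2; rfl
        · cases h2
      · rcases h2 with h2 | h2
        · cases h2
        · cases h2; rfl
    · rcases ht with rfl | rfl
      · rcases h2 with ⟨h2, -⟩ | ⟨h2, -⟩ <;> cases h2
      · rcases h2 with ⟨h2, -⟩ | ⟨h2, -⟩ <;> cases h2
    · rcases ht with rfl | rfl <;> exact h2.elim
  subst hn
  obtain ⟨C, hC⟩ : ∃ C : ℕ, |c| = C := ⟨c.natAbs, (Int.natCast_natAbs c).symm⟩
  have hCd : C * dgL t (p ^ f) = usg t (p ^ f) := by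
    rw [hC, hs] at hcd
    exact_mod_cast hcd
  obtain ⟨-, -, -, hus2, hus⟩ := val_seven ht hq3
  have hC1 : 1 ≤ C := by
    rcases Nat.eq_zero_or_pos C with h0 | h0
    · rw [h0, zero_mul] at hCd
      omega
    · exact h0
  have hC2 : 2 * (C : ℤ) ≤ (p ^ f : ℕ) + 1 := by
    have h2 : C * 2 ≤ C * dgL t (p ^ f) := Nat.mul_le_mul_left _ hdg
    rw [hCd] at h2
    omega
  have hCb : (C : ℤ) ∣ (p ^ f : ℕ) + s := by
    rw [← hcd, hC]
    exact Dvd.intro _ rfl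
  have hMz : ((ttor t (p ^ f) i : ℕ) : ℤ) = (H : ℤ) * (ttor t' (v ^ f') i' : ℤ) := by exact_mod_cast hM
  have hNz : ((ttor t (p ^ f) j : ℕ) : ℤ) = (H' : ℤ) * (ttor t' (v ^ f') j' : ℤ) := by exact_mod_cast hN
  have hlin : k = 0 → ((∃ m, t' = .psl m ∧ d = Nat.gcd m (v ^ f' - 1)) ∨ (∃ m, t' = .psu m ∧
      d = Nat.gcd m (v ^ f' + 1))) ∧ (d : ℤ) * |c'| ≤ (v ^ f' : ℕ) + 1 := by
    intro hk0
    refine ⟨?_, hd0 hk0⟩
    rcases hS.lin hk0 with ⟨m, h2, -, h3, -⟩ | ⟨m, h2, -, h3, -⟩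
    · exact Or.inl ⟨m, h2, h3⟩
    · exact Or.inr ⟨m, h2, h3⟩
  have hcp : 1 ≤ |c'| := Int.one_le_abs hc0'
  rcases hij with ⟨rfl, hj7, ea, eb⟩ | ⟨hi7, rfl, ea, eb⟩
  · -- `i = 8`, `j = 7`
    obtain rfl : j = 7 := by omega
    have hH7 : H' ∣ C * 7 := cof_seven ht hq3 hN hCd hcop'
    have h2 := canc (M := ttor t (p ^ f) 7) (N := ttor t (p ^ f) 8) (P := ttor t' (v ^ f') j')
      (Q := ttor t' (v ^ f') i') (a := b) (b := a) (c := -c) (a' := b') (b' := a') (c' := -c') (H := H') (C := C)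
      (H' := (H : ℤ)) (by linear_combination -hL.rel) (by linear_combination -hS.eq) hNz hMz (by omega) (by omega)
      (by rw [abs_neg]; exact hC) hC1 (by rw [ea]; exact hCb) hH7 (by
        intro h0
        apply hne2
        linear_combination -h0)
    rw [abs_neg, abs_neg, hC, eb] at h2
    exact ⟨j', i', k, d, b', a', -c', C, ⟨hj, h.topi', (na_ne h.na').symm, Dvd.intro_left _ hN.symm,
      Dvd.intro_left _ hM.symm, hQ1, hP1, le_seven ht hq3 hN hCd hC1 hH7, by rw [abs_neg]; exact h2,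
      by exact_mod_cast hC1, hC2, by linear_combination -hS.eq, hb1', hb2', ha1', hba', hk3,
      by rw [abs_neg]; exact hlin, hS.lk, hS.sp, fun h3 => by
        obtain ⟨h4, h5, h6⟩ := hk1 h3
        exact ⟨by rw [abs_neg]; exact h4, h6, h5⟩, by rw [abs_neg]; exact hc', by rw [abs_neg]; exact hcp⟩⟩
  · -- `i = 7`, `j = 8`
    obtain rfl : i = 7 := by omega
    have hH7 : H ∣ C * 7 := cof_seven ht hq3 hM hCd h.copH
    have h2 := canc (M := ttor t (p ^ f) 7) (N := ttor t (p ^ f) 8) (P := ttor t' (v ^ f') i')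
      (Q := ttor t' (v ^ f') j') (a := a) (b := b) (c := c) (a' := a') (b' := b') (c' := c') (H := H) (C := C)
      (H' := (H' : ℤ)) hL.rel hS.eq hMz hNz (by omega) (by omega) hC hC1 (by rw [eb]; exact hCb) hH7 hne1
    rw [hC, ea] at h2
    exact ⟨i', j', k, d, a', b', c', C, ⟨h.topi', hj, na_ne h.na', Dvd.intro_left _ hM.symm,
      Dvd.intro_left _ hN.symm, hP1, hQ1, le_seven ht hq3 hM hCd hC1 hH7, h2,
      by exact_mod_cast hC1, hC2, hS.eq, ha1', ha2', hb1', hab', hk3,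
      hlin, hS.lk, hS.sp, hk1, hc', hcp⟩⟩

end

end Cfsg.Agent.R2.Spec.SDL
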