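import Cfsg.Agent.R2.Spec.SDL.Iso
import Cfsg.Agent.R2.Spec.NA.Glue
import Cfsg.Agent.R2.Spec.NA.Rel
import Cfsg.Agent.R2.Spec.AA.Data
import Cfsg.Agent.R2.Spec.E.HOdd

/-!
# S3435, SMALLD, `L = L_8(q)`, `U_8(q)` (helper19): `S = L_m(u)`, `U_m(u)`, `m = 5, 6`, the second class not isolated
-/

set_option autoImplicit false
set_option linter.unusedSectionVars false

namespace Cfsg.Agent.R2.Spec.SDL

open Cfsg Cfsg.Agent.H426.LieFam Cfsg.Agent.R2.Spec Cfsg.Agent.R2.Spec.P1 Cfsg.Agent.R2.Spec.F1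
open Cfsg.Agent.R2.Spec.E Cfsg.Agent.R2.Spec.NA Cfsg.Agent.R2.Spec.AA Cfsg.Agent.R2.Spec.X7

/-- the lower bound of the numbers of `L` -/
theorem lowM8 {t : Fam} {q i j : ℕ} (ht : t = .psl 8 ∨ t = .psu 8) (hq : 3 ≤ q) (hp : PairOK t i j) :
    q ^ 8 ≤ 8 * ((q + 1) * ttor t q i) + 1 := by
  have hi : i = 7 ∨ i = 8 := by
    rcases ht with rfl | rfl
    · rcases hp with ⟨h1, h2⟩ | ⟨h1, h2⟩ <;> omega
    · rcases hp with ⟨h1, h2⟩ | ⟨h1, h2⟩ <;> omega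
  have e8 : q ^ 8 = q * q ^ 7 := by ring
  have h7 := Nat.one_le_pow 7 q (by omega)
  have h8 := Nat.one_le_pow 8 q (by omega)
  rcases ht with rfl | rfl
  · obtain ⟨v1, v2⟩ := val_psl (n := 8) (q := q) (by omega) (by omega)
    have hg : Nat.gcd 8 (q - 1) ≤ 8 := Nat.gcd_le_left _ (by norm_num)
    rcases hi with rfl | rfl
    · have h1 : ttor (.psl 8) q 7 * Nat.gcd 8 (q - 1) ≤ ttor (.psl 8) q 7 * 8 := Nat.mul_le_mul_left _ hg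
      have h2 : q ^ 7 - 1 ≤ ttor (.psl 8) q 7 * 8 := by rw [← v2]; exact h1
      have h3 : (q + 1) * (q ^ 7 - 1) ≤ (q + 1) * (ttor (.psl 8) q 7 * 8) := Nat.mul_le_mul_left _ h2
      obtain ⟨z, hz⟩ : ∃ z, q ^ 7 = z + 1 := ⟨q ^ 7 - 1, by omega⟩
      have hqz : q ≤ q ^ 7 := Nat.le_self_pow (by norm_num) q
      rw [e8]
      rw [hz] at h3 hqz ⊢
      rw [Nat.add_sub_cancel] at h3
      nlinarith
    · have h1 : ttor (.psl 8) q 8 * (Nat.gcd 8 (q - 1) * (q - 1)) ≤ ttor (.psl 8) q 8 * (8 * (q + 1)) :=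
        Nat.mul_le_mul_left _ (Nat.mul_le_mul hg (by omega))
      rw [v1] at h1
      have h2 : ttor (.psl 8) q 8 * (8 * (q + 1)) = 8 * ((q + 1) * ttor (.psl 8) q 8) := by ring
      omega
  · obtain ⟨v1, v2⟩ := val_psu (n := 8) (q := q) (by omega) (by omega)
    rw [if_pos (by norm_num)] at v1 v2
    have hg : Nat.gcd 8 (q + 1) ≤ 8 := Nat.gcd_le_left _ (by norm_num)
    rcases hi with rfl | rfl
    · have h1 : ttor (.psu 8) q 7 * Nat.gcd 8 (q + 1) ≤ ttor (.psu 8) q 7 * 8 := Nat.mul_le_mul_left _ hg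
      have h2 : q ^ 7 + 1 ≤ ttor (.psu 8) q 7 * 8 := by rw [← v2]; exact h1
      have h3 : (q + 1) * (q ^ 7 + 1) ≤ (q + 1) * (ttor (.psu 8) q 7 * 8) := Nat.mul_le_mul_left _ h2
      rw [e8]
      nlinarith
    · have h1 : ttor (.psu 8) q 8 * (Nat.gcd 8 (q + 1) * (q + 1)) ≤ ttor (.psu 8) q 8 * (8 * (q + 1)) :=
        Nat.mul_le_mul_left _ (Nat.mul_le_mul_right _ hg)
      rw [v1] at h1
      have h2 : ttor (.psu 8) q 8 * (8 * (q + 1)) = 8 * ((q + 1) * ttor (.psu 8) q 8) := by ring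
      omega

theorem six_mul_le {H : ℕ} (h : 5 ≤ H) : 6 * H ≤ 2 ^ H := by
  induction H, h using Nat.le_induction with
  | base => norm_num
  | succ n hn ih =>
    rw [pow_succ]
    omega

/-- the large cofactor, common part -/
theorem big_q_lt {q u H a : ℕ} (ha : a = 5 ∨ a = 6) (hH : 6 * H ≤ u) (hH5 : 5 ≤ H)
    (h : q ^ 8 ≤ 8 * ((q + 1) * (H * (2 * u ^ (a - 1)))) + 1) : q < u := by
  by_contra hcon
  have hu : u ≤ q := by omega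
  have hq : 30 ≤ q := by omega
  have h1 : 6 * H * u ^ (a - 1) ≤ q * q ^ (a - 1) := Nat.mul_le_mul (by omega) (Nat.pow_le_pow_left hu _)
  have h2 : q * q ^ (a - 1) = q ^ a := by rw [← pow_succ']; congr 1; omega
  have h3 : q ^ a ≤ q ^ 6 := Nat.pow_le_pow_right (by omega) (by omega)
  have h4 : 6 * (8 * ((q + 1) * (H * (2 * u ^ (a - 1))))) = 16 * ((q + 1) * (6 * H * u ^ (a - 1))) := by ring
  have h5 : (q + 1) * (6 * H * u ^ (a - 1)) ≤ (q + 1) * q ^ 6 := Nat.mul_le_mul_left _ (by omega)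
  have h6 : 6 * q ^ 8 ≤ 16 * ((q + 1) * q ^ 6) + 6 := by omega
  have h7 : q ^ 8 = q * q * q ^ 6 := by ring
  have h8 : 1 ≤ q ^ 6 := Nat.one_le_pow _ _ (by omega)
  have h9 : 16 * (q + 1) + 7 ≤ 6 * (q * q) := by nlinarith
  have h10 := Nat.mul_le_mul_right (q ^ 6) h9
  rw [h7] at h6
  nlinarith

theorem num5 {q u H : ℕ} (hq : 3 ≤ q) (hu : 2 ≤ u) (hH : H = 1 ∨ (5 ≤ H ∧ 6 * H ≤ u))
    (h1 : q ^ 8 ≤ 8 * ((q + 1) * (H * (2 * u ^ 4))) + 1)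
    (h2 : u ^ 4 ≤ u ^ 3 + u + (q + 1) * (H * (u ^ 2 + 2 * u + 2) + 5 * (q + 1))) : False := by
  rcases hH with rfl | ⟨hH5, hH⟩
  · have hqu : q < u := by
      by_contra hcon
      have h3 : u ^ 4 ≤ q ^ 4 := Nat.pow_le_pow_left (by omega) 4
      have h4 : (q + 1) * (1 * (2 * u ^ 4)) ≤ (q + 1) * (1 * (2 * q ^ 4)) :=
        Nat.mul_le_mul_left _ (Nat.mul_le_mul_left _ (Nat.mul_le_mul_left _ h3))
      have h5 : q ^ 8 = q ^ 3 * (q * q ^ 4) := by ring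
      have h6 : 27 * (q * q ^ 4) ≤ q ^ 3 * (q * q ^ 4) :=
        Nat.mul_le_mul_right _ (by calc 27 = 3 ^ 3 := by norm_num
          _ ≤ q ^ 3 := Nat.pow_le_pow_left hq 3)
      have h7 : 1 ≤ q ^ 4 := Nat.one_le_pow _ _ (by omega)
      nlinarith
    have h3 : (q + 1) * (1 * (u ^ 2 + 2 * u + 2) + 5 * (q + 1)) ≤ u * (1 * (u ^ 2 + 2 * u + 2) + 5 * u) :=
      Nat.mul_le_mul (by omega) (by omega)
    have h4 : u ^ 4 ≤ u ^ 3 + u + u * (1 * (u ^ 2 + 2 * u + 2) + 5 * u) := by omega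
    obtain ⟨y, rfl⟩ : ∃ y, u = y + 4 := ⟨u - 4, by omega⟩
    ring_nf at h4
    nlinarith [Nat.zero_le (y ^ 2), Nat.zero_le (y ^ 3), Nat.zero_le (y ^ 4)]
  · have hqu := big_q_lt (a := 5) (Or.inl rfl) hH hH5 h1
    have h3 : (q + 1) * (H * (u ^ 2 + 2 * u + 2) + 5 * (q + 1)) ≤ u * (H * (u ^ 2 + 2 * u + 2) + 5 * u) :=
      Nat.mul_le_mul (by omega) (by omega)
    have h4 : 6 * H * (u ^ 2 + 2 * u + 2) ≤ u * (u ^ 2 + 2 * u + 2) := Nat.mul_le_mul_right _ hH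
    have h5 : 6 * u ^ 4 ≤ 6 * u ^ 3 + 6 * u + u * (u * (u ^ 2 + 2 * u + 2) + 30 * u) := by
      have h6 : u * (6 * H * (u ^ 2 + 2 * u + 2)) ≤ u * (u * (u ^ 2 + 2 * u + 2)) := Nat.mul_le_mul_left _ h4
      nlinarith
    obtain ⟨y, rfl⟩ : ∃ y, u = y + 30 := ⟨u - 30, by omega⟩
    ring_nf at h5
    nlinarith [Nat.zero_le (y ^ 2), Nat.zero_le (y ^ 3), Nat.zero_le (y ^ 4)]

theorem num6 {q u H : ℕ} (hq : 3 ≤ q) (hu : 2 ≤ u) (hH : H = 1 ∨ (5 ≤ H ∧ 6 * H ≤ u))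
    (h1 : q ^ 8 ≤ 8 * ((q + 1) * (H * (2 * u ^ 5))) + 1)
    (h2 : u ^ 3 + u ≤ u ^ 2 + 1 + (q + 1) * (H * (u + 1) + 6 * (q + 1))) : H = 1 ∧ q ≤ 8 ∧ u ≤ 9 := by
  rcases hH with rfl | ⟨hH5, hH⟩
  · refine ⟨rfl, ?_⟩
    have huq : u ≤ q + 2 := by
      by_contra hcon
      obtain ⟨y, rfl⟩ : ∃ y, u = q + 3 + y := ⟨u - (q + 3), by omega⟩
      obtain ⟨x, rfl⟩ : ∃ x, q = x + 3 := ⟨q - 3, by omega⟩
      ring_nf at h2
      nlinarith [Nat.zero_le (y ^ 2), Nat.zero_le (y ^ 3), Nat.zero_le (x ^ 2), Nat.zero_le (x ^ 3),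
        Nat.zero_le (x * y), Nat.zero_le (x ^ 2 * y), Nat.zero_le (x * y ^ 2)]
    have hq8 : q ≤ 8 := by
      by_contra hcon
      have h3 : u ^ 5 ≤ (q + 2) ^ 5 := Nat.pow_le_pow_left huq 5
      have h4 : (q + 1) * (1 * (2 * u ^ 5)) ≤ (q + 1) * (1 * (2 * (q + 2) ^ 5)) :=
        Nat.mul_le_mul_left _ (Nat.mul_le_mul_left _ (Nat.mul_le_mul_left _ h3))
      have h5 : q ^ 8 ≤ 8 * ((q + 1) * (1 * (2 * (q + 2) ^ 5))) + 1 := by omega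
      have h6 : 9 * (q + 2) ≤ 11 * q := by omega
      have h7 : 9 ^ 5 * (q + 2) ^ 5 ≤ 11 ^ 5 * q ^ 5 := by
        rw [← mul_pow, ← mul_pow]
        exact Nat.pow_le_pow_left h6 5
      have h8 : 9 * (q + 1) ≤ 10 * q := by omega
      have h9 : 9 * (q + 1) * (9 ^ 5 * (q + 2) ^ 5) ≤ 10 * q * (11 ^ 5 * q ^ 5) := Nat.mul_le_mul h8 h7
      have h10 : 9 ^ 6 * q ^ 8 ≤ 16 * (10 * q * (11 ^ 5 * q ^ 5)) + 9 ^ 6 := by
        have h11 : 9 ^ 6 * (8 * ((q + 1) * (1 * (2 * (q + 2) ^ 5))) + 1) =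
          16 * (9 * (q + 1) * (9 ^ 5 * (q + 2) ^ 5)) + 9 ^ 6 := by ring
        have h12 := Nat.mul_le_mul_left (9 ^ 6) h5
        omega
      have h13 : q ^ 8 = q * q * q ^ 6 := by ring
      have h14 : 16 * (10 * q * (11 ^ 5 * q ^ 5)) = 25768160 * q ^ 6 := by ring
      have h15 : 81 * q ^ 6 ≤ q * q * q ^ 6 := Nat.mul_le_mul_right _ (by nlinarith)
      have h16 : 1 ≤ q ^ 6 := Nat.one_le_pow _ _ (by omega)
      omega
    refine ⟨hq8, ?_⟩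
    by_contra hcon
    have hu10 : u = 10 := by omega
    have hq8' : q = 8 := by omega
    subst hu10 hq8'
    norm_num at h2
  · exfalso
    have hqu := big_q_lt (a := 6) (Or.inr rfl) hH hH5 h1
    have h3 : (q + 1) * (H * (u + 1) + 6 * (q + 1)) ≤ u * (H * (u + 1) + 6 * u) :=
      Nat.mul_le_mul (by omega) (by omega)
    have h4 : 6 * H * (u + 1) ≤ u * (u + 1) := Nat.mul_le_mul_right _ hH
    have h5 : 6 * u ^ 3 + 6 * u ≤ 6 * u ^ 2 + 6 + u * (u * (u + 1) + 36 * u) := by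
      have h6 : u * (6 * H * (u + 1)) ≤ u * (u * (u + 1)) := Nat.mul_le_mul_left _ h4
      nlinarith
    obtain ⟨y, rfl⟩ : ∃ y, u = y + 30 := ⟨u - 30, by omega⟩
    ring_nf at h5
    nlinarith [Nat.zero_le (y ^ 2), Nat.zero_le (y ^ 3)]

end Cfsg.Agent.R2.Spec.SDL
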