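import Cfsg.Agent.R2.Spec.SDL.Alg

/-!
# S3435, SMALLD, `L = L_8(q)`, `U_8(q)` (helper19): the numeric lemmas

* `num_sp` : `k = 1` is impossible;
* `num_lin` : `k = 0` : `q < 5`; `num_lin3` : `q = 3` : `u ≤ 6`, `m ≤ 7`;
* `num_orth` : `k = 2, 3` : `q < 15`; `num_orth2` : `u ≤ 40`, `m ≤ 13`.
-/

set_option autoImplicit false
set_option linter.unusedSectionVars false

namespace Cfsg.Agent.R2.Spec.SDL

theorem pow5_ge {q c : ℤ} (hc : 0 ≤ c) (hq : c ≤ q) : c ^ 4 * q ≤ q ^ 5 := by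
  have h1 : c ^ 4 ≤ q ^ 4 := pow_le_pow_left₀ hc hq 4
  have h2 : c ^ 4 * q ≤ q ^ 4 * q := mul_le_mul_of_nonneg_right h1 (by omega)
  calc c ^ 4 * q ≤ q ^ 4 * q := h2
    _ = q ^ 5 := by ring

theorem num_sp {q P7 P8 e C : ℤ} (hq : 3 ≤ q) (he : |e| ≤ 2) (hC : 2 * C ≤ q + 1) (h1 : P7 = P8 + e)
    (h7 : q ^ 7 ≤ 7 * ((q + 1) * P7) + 1) (h8 : P8 ≤ C + 7 * (q * |e|)) : False := by
  have h2 := le_abs_self e
  have h3 : q * |e| ≤ q * 2 := mul_le_mul_of_nonneg_left he (by omega)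
  have h4 : 2 * P7 ≤ 29 * q + 5 := by omega
  have h5 : (q + 1) * (2 * P7) ≤ (q + 1) * (29 * q + 5) := mul_le_mul_of_nonneg_left h4 (by omega)
  have h6 := pow5_ge (c := 3) (by norm_num) hq
  have h8 : (3 ^ 4 * q) * q ^ 2 ≤ q ^ 5 * q ^ 2 := mul_le_mul_of_nonneg_right h6 (by positivity)
  have h9 : q ^ 5 * q ^ 2 = q ^ 7 := by ring
  have h10 : 3 * (q * q ^ 2) ≥ 3 * (3 * q ^ 2) := by nlinarith [sq_nonneg q]
  nlinarith [sq_nonneg q]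

theorem num_lin {q u P7 P8 α e C D W : ℤ} (hq : 5 ≤ q) (hu : 2 ≤ u) (he1 : |e| ≤ u + 1) (hC : 2 * C ≤ q + 1)
    (hC1 : 1 ≤ C) (hα : α ≤ u + 1) (h1 : P7 ≤ 3 * P8 + |e|) (h7 : q ^ 7 ≤ 7 * ((q + 1) * P7) + 1)
    (h8 : P8 ≤ α * C + 7 * (q * |e|)) (hD : D ≤ u + 1) (hD1 : 1 ≤ D) (hDe : D * |e| ≤ u + 1)
    (hlow : u ^ 4 ≤ W) (hW : W ≤ (u + 1) * (D * P8) + 1) : False := by
  have he0 := abs_nonneg e
  obtain ⟨x, hx⟩ : ∃ x, x = u + 1 := ⟨_, rfl⟩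
  have hux : u = x - 1 := by omega
  rw [← hx] at he1 hα hD hDe hW
  have a1 : α * C ≤ x * C := mul_le_mul_of_nonneg_right hα (by omega)
  have a2 : q * |e| ≤ q * x := mul_le_mul_of_nonneg_left he1 (by omega)
  have a3 : x * (2 * C) ≤ x * (q + 1) := mul_le_mul_of_nonneg_left hC (by omega)
  have a4 : 2 * P7 ≤ x * (45 * q + 5) := by nlinarith
  have a5 : (q + 1) * (2 * P7) ≤ (q + 1) * (x * (45 * q + 5)) := mul_le_mul_of_nonneg_left a4 (by omega)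
  have a6 : 2 * q ^ 7 ≤ 7 * ((q + 1) * (x * (45 * q + 5))) + 2 := by linarith
  have a7 := pow5_ge (c := 5) (by norm_num) hq
  have a8 : (5 ^ 4 * q) * q ^ 2 ≤ q ^ 7 := by
    calc (5 ^ 4 * q) * q ^ 2 ≤ q ^ 5 * q ^ 2 := mul_le_mul_of_nonneg_right a7 (by positivity)
      _ = q ^ 7 := by ring
  -- `1250 q ≤ 388 x`
  have hq2 : 0 < q ^ 2 := by positivity
  have a9 : (q + 1) * (x * (45 * q + 5)) * 5 ≤ x * (6 * q) * (46 * q) := by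
    have b1 : (q + 1) * 5 ≤ 6 * q := by omega
    have b2 : 45 * q + 5 ≤ 46 * q := by omega
    have b3 : 0 ≤ x * (45 * q + 5) := by nlinarith
    calc (q + 1) * (x * (45 * q + 5)) * 5 = ((q + 1) * 5) * (x * (45 * q + 5)) := by ring
      _ ≤ (6 * q) * (x * (45 * q + 5)) := mul_le_mul_of_nonneg_right b1 b3
      _ ≤ (6 * q) * (x * (46 * q)) := by
        refine mul_le_mul_of_nonneg_left (mul_le_mul_of_nonneg_left b2 (by omega)) (by omega)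
      _ = x * (6 * q) * (46 * q) := by ring
  have a10 : 6250 * q * q ^ 2 ≤ (1932 * x + 1) * q ^ 2 := by nlinarith
  have a11 : 6250 * q ≤ 1932 * x + 1 := le_of_mul_le_mul_right a10 hq2
  have hx17 : 17 ≤ x := by omega
  -- the lower bound
  have b1 : D * P8 ≤ x * (x * C) + 7 * (q * x) := by
    have c1 : D * P8 ≤ D * (x * C + 7 * (q * |e|)) := mul_le_mul_of_nonneg_left (by omega) (by omega)
    have c2 : D * (x * C) ≤ x * (x * C) := mul_le_mul_of_nonneg_right hD (by nlinarith)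
    have c3 : q * (D * |e|) ≤ q * x := mul_le_mul_of_nonneg_left hDe (by omega)
    nlinarith
  have b2 : 2 * W ≤ x * (x * (x * (q + 1)) + 14 * (q * x)) + 2 := by
    have c1 : x * (x * (2 * C)) ≤ x * (x * (q + 1)) := mul_le_mul_of_nonneg_left a3 (by omega)
    have c2 : x * (2 * (D * P8)) ≤ x * (x * (x * (q + 1)) + 14 * (q * x)) :=
      mul_le_mul_of_nonneg_left (by nlinarith) (by omega)
    nlinarith
  rw [hux] at hlow
  have b3 : 2 * (x - 1) ^ 4 ≤ x * (x * (x * (q + 1)) + 14 * (q * x)) + 2 := by linarith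
  have b4 : x * (x * (x * (q + 1)) + 14 * (q * x)) = q * (x ^ 3 + 14 * x ^ 2) + x ^ 3 := by ring
  rw [b4] at b3
  have b5 : 6250 * (q * (x ^ 3 + 14 * x ^ 2)) ≤ (1932 * x + 1) * (x ^ 3 + 14 * x ^ 2) := by
    calc 6250 * (q * (x ^ 3 + 14 * x ^ 2)) = (6250 * q) * (x ^ 3 + 14 * x ^ 2) := by ring
      _ ≤ _ := mul_le_mul_of_nonneg_right a11 (by positivity)
  have b6 : 12500 * (x - 1) ^ 4 ≤ (1932 * x + 1) * (x ^ 3 + 14 * x ^ 2) + 6250 * x ^ 3 + 12500 := by linarith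
  obtain ⟨y, hy⟩ : ∃ y, x = y + 17 := ⟨x - 17, by ring⟩
  have hy0 : 0 ≤ y := by omega
  rw [hy] at b6
  ring_nf at b6
  have c1 : 0 ≤ y ^ 2 := by positivity
  have c2 : 0 ≤ y ^ 3 := by positivity
  have c3 : 0 ≤ y ^ 4 := by positivity
  linarith

theorem num_lin3 {u P8 α e C D W : ℤ} (hu : 2 ≤ u) (he1 : |e| ≤ u + 1) (hC : 2 * C ≤ 3 + 1)
    (hC1 : 1 ≤ C) (hα : α ≤ u + 1) 
    (h8 : P8 ≤ α * C + 7 * (3 * |e|)) (hD : D ≤ u + 1) (hD1 : 1 ≤ D) (hDe : D * |e| ≤ u + 1)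
    (hlow : u ^ 4 ≤ W) (hW : W ≤ (u + 1) * (D * P8) + 1) : u ≤ 6 ∧ W ≤ (u + 1) ^ 2 * (2 * u + 23) + 1 := by
  have he0 := abs_nonneg e
  obtain ⟨x, hx⟩ : ∃ x, x = u + 1 := ⟨_, rfl⟩
  have hux : u = x - 1 := by omega
  rw [← hx] at he1 hα hD hDe hW
  have hC2 : C ≤ 2 := by omega
  have a1 : α * C ≤ x * 2 := by nlinarith
  have b1 : D * P8 ≤ x * (x * 2) + 21 * x := by
    have c1 : D * P8 ≤ D * (x * 2 + 7 * (3 * |e|)) := mul_le_mul_of_nonneg_left (by omega) (by omega)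
    have c2 : D * (x * 2) ≤ x * (x * 2) := mul_le_mul_of_nonneg_right hD (by nlinarith)
    nlinarith
  have b2 : W ≤ x * (x * (x * 2) + 21 * x) + 1 := by
    have c2 : x * (D * P8) ≤ x * (x * (x * 2) + 21 * x) := mul_le_mul_of_nonneg_left b1 (by omega)
    linarith
  have b3 : W ≤ x ^ 2 * (2 * u + 23) + 1 := by
    rw [hux]
    nlinarith
  rw [hx] at b3
  refine ⟨?_, b3⟩
  by_contra hcon
  obtain ⟨y, hy⟩ : ∃ y, u = y + 7 := ⟨u - 7, by ring⟩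
  have hy0 : 0 ≤ y := by omega
  have b4 : u ^ 4 ≤ (u + 1) ^ 2 * (2 * u + 23) + 1 := hlow.trans b3
  rw [hy] at b4
  ring_nf at b4
  have c1 : 0 ≤ y ^ 2 := by positivity
  have c2 : 0 ≤ y ^ 3 := by positivity
  have c3 : 0 ≤ y ^ 4 := by positivity
  linarith

theorem num_orth {q u P7 P8 α e C W : ℤ} (hq : 3 ≤ q) (hu : 2 ≤ u) (he1 : |e| ≤ 2 * (u + 1) ^ 2)
    (hC : 2 * C ≤ q + 1) (hC1 : 1 ≤ C) (hα : α ≤ u + 1) (h1 : P7 ≤ 3 * P8 + |e|)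
    (h7 : q ^ 7 ≤ 7 * ((q + 1) * P7) + 1)
    (h8 : P8 ≤ α * C + 7 * (q * |e|)) (hlow : u ^ 4 ≤ W) (hW : W ≤ 8 * P8) :
    q < 15 ∧ W ≤ 4 * ((u + 1) * (q + 1)) + 112 * (q * (u + 1) ^ 2) := by
  have he0 := abs_nonneg e
  obtain ⟨x, hx⟩ : ∃ x, x = u + 1 := ⟨_, rfl⟩
  have hux : u = x - 1 := by omega
  rw [← hx] at he1 hα ⊢
  have a1 : α * C ≤ x * C := mul_le_mul_of_nonneg_right hα (by omega)
  have a2 : q * |e| ≤ q * (2 * x ^ 2) := mul_le_mul_of_nonneg_left he1 (by omega)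
  have a3 : x * (2 * C) ≤ x * (q + 1) := mul_le_mul_of_nonneg_left hC (by omega)
  have hWx : W ≤ 4 * (x * (q + 1)) + 112 * (q * x ^ 2) := by nlinarith
  refine ⟨?_, hWx⟩
  by_contra hcon
  have hq15 : 15 ≤ q := by omega
  have hx3 : 3 ≤ x := by omega
  have a4 : 2 * P7 ≤ x ^ 2 * (85 * q + 5) := by
    have b1 : 3 * (x * (q + 1)) ≤ x ^ 2 * (q + 1) := by
      have b2 : 0 ≤ (x - 3) * (x * (q + 1)) := mul_nonneg (by omega) (mul_nonneg (by omega) (by omega))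
      nlinarith
    have b3 : 2 * P7 ≤ 3 * (x * (q + 1)) + 84 * (q * x ^ 2) + 4 * x ^ 2 := by linarith
    linarith
  have a5 : (q + 1) * (2 * P7) ≤ (q + 1) * (x ^ 2 * (85 * q + 5)) := mul_le_mul_of_nonneg_left a4 (by omega)
  have a6 : 2 * q ^ 7 ≤ 7 * ((q + 1) * (x ^ 2 * (85 * q + 5))) + 2 := by linarith
  have a7 := pow5_ge (c := 15) (by norm_num) hq15
  have a8 : (15 ^ 4 * q) * q ^ 2 ≤ q ^ 7 := by
    calc (15 ^ 4 * q) * q ^ 2 ≤ q ^ 5 * q ^ 2 := mul_le_mul_of_nonneg_right a7 (by positivity)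
      _ = q ^ 7 := by ring
  have hq2 : 0 < q ^ 2 := by positivity
  have hx2 : 0 ≤ x ^ 2 := by positivity
  have a9 : 7 * ((q + 1) * (85 * q + 5)) ≤ 638 * q ^ 2 := by nlinarith
  have a10 : 7 * ((q + 1) * (x ^ 2 * (85 * q + 5))) ≤ 638 * q ^ 2 * x ^ 2 := by
    calc 7 * ((q + 1) * (x ^ 2 * (85 * q + 5))) = (7 * ((q + 1) * (85 * q + 5))) * x ^ 2 := by ring
      _ ≤ 638 * q ^ 2 * x ^ 2 := mul_le_mul_of_nonneg_right a9 hx2
  have a11 : (101250 * q) * q ^ 2 ≤ (638 * x ^ 2 + 1) * q ^ 2 := by nlinarith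
  have a12 : 101250 * q ≤ 638 * x ^ 2 + 1 := le_of_mul_le_mul_right a11 hq2
  have hx49 : 48 ≤ x := by nlinarith
  rw [hux] at hlow
  have b3 : (x - 1) ^ 4 ≤ 4 * (x * (q + 1)) + 112 * (q * x ^ 2) := by linarith
  have b4 : 101250 * (x - 1) ^ 4 ≤ (638 * x ^ 2 + 1) * (4 * x + 112 * x ^ 2) + 405000 * x := by
    have c1 : (101250 * q) * (4 * x + 112 * x ^ 2) ≤ (638 * x ^ 2 + 1) * (4 * x + 112 * x ^ 2) :=
      mul_le_mul_of_nonneg_right a12 (by positivity)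
    nlinarith
  obtain ⟨y, hy⟩ : ∃ y, x = y + 48 := ⟨x - 48, by ring⟩
  have hy0 : 0 ≤ y := by omega
  rw [hy] at b4
  ring_nf at b4
  have c1 : 0 ≤ y ^ 2 := by positivity
  have c2 : 0 ≤ y ^ 3 := by positivity
  have c3 : 0 ≤ y ^ 4 := by positivity
  linarith

theorem num_orth2 {q u W : ℤ} (hq : 3 ≤ q) (hq2 : q ≤ 13) (hu : 2 ≤ u) (hlow : u ^ 4 ≤ W)
    (hW : W ≤ 4 * ((u + 1) * (q + 1)) + 112 * (q * (u + 1) ^ 2)) : u ≤ 40 := by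
  by_contra hcon
  obtain ⟨y, hy⟩ : ∃ y, u = y + 41 := ⟨u - 41, by ring⟩
  have hy0 : 0 ≤ y := by omega
  have h1 : (u + 1) * (q + 1) ≤ (u + 1) * 14 := mul_le_mul_of_nonneg_left (by omega) (by omega)
  have h2 : q * (u + 1) ^ 2 ≤ 13 * (u + 1) ^ 2 := mul_le_mul_of_nonneg_right hq2 (by positivity)
  have b4 : u ^ 4 ≤ 4 * ((u + 1) * 14) + 112 * (13 * (u + 1) ^ 2) := by linarith
  rw [hy] at b4
  ring_nf at b4
  have c1 : 0 ≤ y ^ 2 := by positivity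
  have c2 : 0 ≤ y ^ 3 := by positivity
  have c3 : 0 ≤ y ^ 4 := by positivity
  linarith

end Cfsg.Agent.R2.Spec.SDL
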