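import Cfsg.Agent.R2.Spec.E.IsoRaw

/-!
# S3435, SMALLD, `L = L_8(q)`, `U_8(q)` (helper19): the cofactor of the number of class 7

* `seven_dvd` : `H ∣ C Φ_7(y)`, all primes of `H` divide `y - 1` : `H ∣ 7 C`;
* `cof_seven` : the cofactor of `ttor t q 7` divides `7 |c|`, `|c| = |y - 1| / d`.
-/

set_option autoImplicit false
set_option linter.unusedSectionVars false

namespace Cfsg.Agent.R2.Spec.SDL

open Cfsg Cfsg.Agent.H426.LieFam Cfsg.Agent.R2.Spec Cfsg.Agent.R2.Spec.P1 Cfsg.Agent.R2.Spec.F1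
open Cfsg.Agent.R2.Spec.E

/-- the value of the cyclotomic polynomial -/
def ph7 (y : ℤ) : ℤ := y ^ 6 + y ^ 5 + y ^ 4 + y ^ 3 + y ^ 2 + y + 1

theorem ph7_mul (y : ℤ) : (y - 1) * ph7 y = y ^ 7 - 1 := by
  unfold ph7
  ring

theorem ph7_pos (y : ℤ) : 0 < ph7 y := by
  unfold ph7
  nlinarith [sq_nonneg (y ^ 3 + y ^ 2 / 2), sq_nonneg (2 * y ^ 3 + y ^ 2), sq_nonneg (y ^ 2 + y), sq_nonneg (y + 1),
    sq_nonneg (y ^ 2), sq_nonneg y]

theorem ph7_seven {y r : ℤ} (h1 : r ∣ y - 1) (h2 : r ∣ ph7 y) : r ∣ 7 := by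
  have h3 : ph7 y = (y - 1) * (y ^ 5 + 2 * y ^ 4 + 3 * y ^ 3 + 4 * y ^ 2 + 5 * y + 6) + 7 := by
    unfold ph7
    ring
  rw [h3] at h2
  exact (dvd_add_right (h1.mul_right _)).1 h2

theorem ph7_mod49 (y : ℤ) : ¬ (49 : ℤ) ∣ ph7 y := by
  intro h
  have h1 : ((ph7 y : ℤ) : ZMod 49) = 0 := (ZMod.intCast_zmod_eq_zero_iff_dvd _ 49).2 (by exact_mod_cast h)
  have h2 : ∀ z : ZMod 49, z ^ 6 + z ^ 5 + z ^ 4 + z ^ 3 + z ^ 2 + z + 1 ≠ 0 := by decide +kernel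
  apply h2 (y : ZMod 49)
  rw [← h1]
  unfold ph7
  push_cast
  ring

theorem seven_dvd {y : ℤ} {H C : ℕ} (h : H ∣ C * (ph7 y).natAbs)
    (hp : ∀ r : ℕ, r.Prime → r ∣ H → (r : ℤ) ∣ y - 1) : H ∣ C * 7 := by
  have hpos : 0 < (ph7 y).natAbs := Int.natAbs_pos.2 (ph7_pos y).ne'
  have h1 : H ∣ C * Nat.gcd (ph7 y).natAbs H := by
    rw [← Nat.gcd_mul_left]
    exact Nat.dvd_gcd h (Dvd.intro_left C rfl)
  have h2 : Nat.gcd (ph7 y).natAbs H ∣ 7 := by
    obtain ⟨g, hg⟩ : ∃ g, g = Nat.gcd (ph7 y).natAbs H := ⟨_, rfl⟩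
    have hgH : g ∣ H := hg ▸ Nat.gcd_dvd_right _ _
    have hgP : g ∣ (ph7 y).natAbs := hg ▸ Nat.gcd_dvd_left _ _
    rw [← hg]
    have hg0 : g ≠ 0 := by
      rintro rfl
      exact hpos.ne' (Nat.eq_zero_of_zero_dvd hgP)
    have huniq : ∀ {d : ℕ}, d.Prime → d ∣ g → d = 7 := by
      intro d hd hdg
      have h3 : (d : ℤ) ∣ y - 1 := hp d hd (hdg.trans hgH)
      have h4 : (d : ℤ) ∣ ph7 y := Int.natCast_dvd.2 (hdg.trans hgP)
      have h5 : (d : ℤ) ∣ 7 := ph7_seven h3 h4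
      exact (Nat.prime_dvd_prime_iff_eq hd (by norm_num)).1 (by exact_mod_cast h5)
    have h6 := Nat.eq_prime_pow_of_unique_prime_dvd hg0 huniq
    rcases Nat.lt_or_ge g.primeFactorsList.length 2 with h7 | h7
    · rw [h6]
      have h8 : 7 ^ g.primeFactorsList.length ∣ 7 ^ 1 := pow_dvd_pow 7 (by omega)
      rwa [pow_one] at h8
    · exfalso
      have h8 : 7 ^ 2 ∣ g := by
        rw [h6]
        exact pow_dvd_pow 7 h7
      exact ph7_mod49 y (Int.natCast_dvd.2 (h8.trans hgP))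
  exact h1.trans (Nat.mul_dvd_mul_left C h2)

/-- the value of the number of class `7` -/
theorem val_seven {t : Fam} {q : ℕ} (ht : t = .psl 8 ∨ t = .psu 8) (hq : 3 ≤ q) :
    ttor t q 7 * dgL t q = ((sg t q) ^ 7 - 1).natAbs ∧ (sg t q - 1).natAbs = usg t q ∧ dgL t q ∣ usg t q ∧
      2 ≤ usg t q ∧ usg t q ≤ q + 1 := by
  rcases ht with rfl | rfl
  · have h1 := (val_psl (n := 8) (q := q) (by omega) (by omega)).2
    refine ⟨?_, ?_, ?_, ?_, ?_⟩
    · change ttor (.psl 8) q (8 - 1) * Nat.gcd 8 (q - 1) = ((q : ℤ) ^ 7 - 1).natAbs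
      rw [h1]
      have h2 := Nat.one_le_pow 7 q (by omega)
      have h3 : ((q : ℤ) ^ 7 - 1) = ((q ^ 7 - 1 : ℕ) : ℤ) := by
        rw [Nat.cast_sub h2]
        push_cast
        ring
      rw [h3, Int.natAbs_natCast]
    · change ((q : ℤ) - 1).natAbs = q - 1
      omega
    · exact Nat.gcd_dvd_right 8 (q - 1)
    · change 2 ≤ q - 1
      omega
    · change q - 1 ≤ q + 1
      omega
  · have h1 := (val_psu (n := 8) (q := q) (by omega) (by omega)).2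
    refine ⟨?_, ?_, ?_, ?_, ?_⟩
    · change ttor (.psu 8) q (8 - 1) * Nat.gcd 8 (q + 1) = ((-(q : ℤ)) ^ 7 - 1).natAbs
      rw [h1, if_pos (by norm_num)]
      have h3 : ((-(q : ℤ)) ^ 7 - 1) = -((q ^ 7 + 1 : ℕ) : ℤ) := by
        push_cast
        ring
      rw [h3, Int.natAbs_neg, Int.natAbs_natCast]
    · change (-(q : ℤ) - 1).natAbs = q + 1
      omega
    · exact Nat.gcd_dvd_right 8 (q + 1)
    · change 2 ≤ q + 1
      omega
    · change q + 1 ≤ q + 1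
      omega

/-- **The cofactor of the number of class `7`.** -/
theorem cof_seven {t : Fam} {q H P C : ℕ} (ht : t = .psl 8 ∨ t = .psu 8) (hq : 3 ≤ q) (hM : ttor t q 7 = H * P)
    (hC : C * dgL t q = usg t q) (hcop : ∀ r : ℕ, r.Prime → cls t q r = 7 → ¬ r ∣ H) : H ∣ C * 7 := by
  obtain ⟨h1, h2, h3, h4, h5⟩ := val_seven ht hq
  have hd : 0 < dgL t q := by
    rcases Nat.eq_zero_or_pos (dgL t q) with h0 | h0
    · rw [h0, mul_zero] at hC
      omega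
    · exact h0
  have hM' : ttor t q 7 = C * (ph7 (sg t q)).natAbs := by
    refine Nat.eq_of_mul_eq_mul_right hd ?_
    rw [h1, ← ph7_mul, Int.natAbs_mul, h2, ← hC]
    ring
  refine seven_dvd (y := sg t q) ?_ ?_
  · rw [← hM', hM]
    exact Dvd.intro _ rfl
  · intro r hr hrH
    have h6 : r ∣ (sg t q ^ 7 - 1).natAbs := by
      rw [← h1, hM]
      exact (hrH.mul_right P).mul_right _
    have h7 : ((sg t q : ℤ) : ZMod r) ^ 7 = 1 := by
      have h8 : ((sg t q ^ 7 - 1 : ℤ) : ZMod r) = 0 :=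
        (ZMod.intCast_zmod_eq_zero_iff_dvd _ r).2 (Int.natCast_dvd.2 h6)
      push_cast at h8
      exact sub_eq_zero.1 h8
    have h8 := orderOf_dvd_of_pow_eq_one h7
    rcases (Nat.dvd_prime (by norm_num)).1 h8 with h9 | h9
    · have h10 : ((sg t q : ℤ) : ZMod r) = 1 := orderOf_eq_one_iff.1 h9
      have h11 : ((sg t q - 1 : ℤ) : ZMod r) = 0 := by
        push_cast
        rw [h10, sub_self]
      exact (ZMod.intCast_zmod_eq_zero_iff_dvd _ r).1 h11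
    · exact absurd hrH (hcop r hr h9)

end Cfsg.Agent.R2.Spec.SDL
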